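import Cfsg.Agent.GrossFit.Three
import Cfsg.Agent.ShultGross.Group
import Cfsg.Agent.S3794
import Cfsg.Agent.Solvable.Fitting
import Cfsg.Agent.Solvable.PGroupBasic
import Cfsg.Agent.Coprime.Sylow
import Mathlib

/-!
Gross's bound for the Fitting height of a solvable group with an automorphism of two power order without fixed
points other than the identity.
-/

set_option autoImplicit false
set_option linter.style.haveILetI false
set_option linter.unusedSectionVars false

namespace CfsgLib.GrossFit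

open CfsgLib.ShultGross (pow_mem_of_invariant quotAut quotAut_mk quotAut_pow quotAut_fpf moves moves_le mem_moves
  map_mem_moves not_dvd_card)
open CfsgLib.S3Fpf (autLin autLin_injective autLin_apply)
open scoped TensorProduct commutatorElement

universe u

variable {G : Type u} [Group G] [Finite G]

theorem pCore_char (p : ℕ) : (Cfsg.pCore p G).Characteristic :=
  Subgroup.characteristic_iff_map_le.2 fun φ =>
    CfsgLib.Solvable.le_pCore p (Subgroup.Normal.map (CfsgLib.Solvable.pCore_normal p) φ.toMonoidHom φ.surjective)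
      ((CfsgLib.Solvable.isPGroup_pCore p).map _)

theorem pCore_map (p : ℕ) (φ : MulAut G) {x : G} (hx : x ∈ Cfsg.pCore p G) : φ x ∈ Cfsg.pCore p G :=
  Subgroup.characteristic_iff_le_comap.1 (pCore_char p) φ hx

theorem fitting_map (φ : MulAut G) {x : G} (hx : x ∈ Cfsg.fittingSubgroup G) : φ x ∈ Cfsg.fittingSubgroup G := by
  haveI : Group.IsNilpotent (Cfsg.fittingSubgroup G) := CfsgLib.Solvable.isNilpotent_fittingSubgroup
  exact CfsgLib.Solvable.le_fittingSubgroup (N := (Cfsg.fittingSubgroup G).map φ.toMonoidHom)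
    (Subgroup.Normal.map inferInstance φ.toMonoidHom φ.surjective)
    (Group.nilpotent_of_surjective _ (φ.toMonoidHom.subgroupMap_surjective _)) ⟨x, hx, rfl⟩

theorem commute_pCore {p q : ℕ} (hp : p.Prime) (hq : q.Prime) (hne : p ≠ q) {x y : G}
    (hx : x ∈ Cfsg.pCore p G) (hy : y ∈ Cfsg.pCore q G) : x * y = y * x := by
  haveI := Fact.mk hp
  haveI := Fact.mk hq
  exact Subgroup.commute_of_normal_of_disjoint _ _ (CfsgLib.Solvable.pCore_normal p)
    (CfsgLib.Solvable.pCore_normal q) (IsPGroup.disjoint_of_ne _ _ hne _ _ (CfsgLib.Solvable.isPGroup_pCore p)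
      (CfsgLib.Solvable.isPGroup_pCore q)) x y hx hy

/-- A normal subgroup of `q`-power index over the Fitting subgroup whose `q`-elements centralise the other cores lies
in the Fitting subgroup. -/
theorem le_fitting {q : ℕ} (hq : q.Prime) (N : Subgroup G) [hN : N.Normal] (hqN : Cfsg.pCore q G ≤ N)
    (hpow : ∀ x ∈ N, ∃ a, x ^ q ^ a ∈ Cfsg.fittingSubgroup G)
    (hcent : ∀ x ∈ N, (∃ a, x ^ q ^ a = 1) → ∀ r : ℕ, r.Prime → r ≠ q → ∀ v ∈ Cfsg.pCore r G, x * v = v * x) :
    N ≤ Cfsg.fittingSubgroup G := by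
  classical
  haveI := Fact.mk hq
  set F := Cfsg.fittingSubgroup G with hF
  let P : Sylow q N := default
  set P₀ := (P : Subgroup N).map N.subtype with hP₀
  have hP₀p : IsPGroup q P₀ := P.2.map _
  have hqP : Cfsg.pCore q G ≤ P₀ := fun x hx => by
    have h : (Cfsg.pCore q G).subgroupOf N ≤ P := by
      have h1 : IsPGroup q ((Cfsg.pCore q G).subgroupOf N) :=
        (CfsgLib.Solvable.isPGroup_pCore q).comap_of_injective N.subtype N.subtype_injective
      haveI : ((Cfsg.pCore q G).subgroupOf N).Normal := (CfsgLib.Solvable.pCore_normal q).subgroupOf N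
      exact P.3 (h1.to_sup_of_normal_left P.2) le_sup_right |>.le.trans' le_sup_left
    exact ⟨⟨x, hqN hx⟩, h hx, rfl⟩
  have hFn : F ≤ Subgroup.normalizer (P₀ : Set G) := by
    rw [hF, CfsgLib.Solvable.fittingSubgroup_eq_iSup_pCore]
    refine iSup_le fun r => ?_
    by_cases hr : (r : ℕ) = q
    · rw [hr]
      exact hqP.trans Subgroup.le_normalizer
    · intro v hv
      have hc : ∀ y ∈ P₀, y * v = v * y := by
        rintro _ ⟨y, hy, rfl⟩
        obtain ⟨a, ha⟩ := P.2 ⟨y, hy⟩
        exact hcent y y.2 ⟨a, congrArg (fun z : (P : Subgroup N) => ((z : N) : G)) ha⟩ r r.2 hr v hv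
      have hv' : v ∈ Subgroup.centralizer (P₀ : Set G) := Subgroup.mem_centralizer_iff.2 hc
      exact Subgroup.centralizer_le_normalizer _ hv'
  have hdecomp : ∀ x ∈ N, ∃ y ∈ P₀, y⁻¹ * x ∈ F := by
    intro x hx
    let f := ((QuotientGroup.mk' F).comp N.subtype).rangeRestrict
    have hfr : IsPGroup q ((QuotientGroup.mk' F).comp N.subtype).range := by
      rintro ⟨_, y, rfl⟩
      obtain ⟨a, ha⟩ := hpow y y.2
      exact ⟨a, Subtype.ext ((map_pow ((QuotientGroup.mk' F).comp N.subtype) y _).symm.trans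
        ((QuotientGroup.eq_one_iff _).2 ha))⟩
    have hfs : Function.Surjective f := MonoidHom.rangeRestrict_surjective _
    have htop : ((P.mapSurjective hfs : Sylow q _) : Subgroup ((QuotientGroup.mk' F).comp N.subtype).range) = ⊤ :=
      ((P.mapSurjective hfs).3 (hfr.to_subgroup ⊤) le_top).symm
    have hmem : f ⟨x, hx⟩ ∈ ((P.mapSurjective hfs : Sylow q _) : Subgroup _) := htop ▸ Subgroup.mem_top _
    rw [Sylow.coe_mapSurjective] at hmem
    obtain ⟨y, hy, hxy⟩ := hmem
    exact ⟨y, ⟨y, hy, rfl⟩, QuotientGroup.eq.1 (congrArg Subtype.val hxy :)⟩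
  have hNn : N ≤ Subgroup.normalizer (P₀ : Set G) := fun x hx => by
    obtain ⟨y, hy, hyx⟩ := hdecomp x hx
    rw [← mul_inv_cancel_left y x]
    exact mul_mem (Subgroup.le_normalizer hy) (hFn hyx)
  haveI : (P : Subgroup N).Normal := by
    refine ⟨fun y hy g => ?_⟩
    have h1 : (g : G) * y * (g : G)⁻¹ ∈ P₀ :=
      (Subgroup.mem_normalizer_iff.1 (hNn g.2) (y : G)).1 ⟨y, hy, rfl⟩
    obtain ⟨z, hz, e⟩ := h1
    have e' : z = g * y * g⁻¹ := Subtype.ext e
    exact e' ▸ hz
  haveI : (P : Subgroup N).Characteristic := P.characteristic_of_normal inferInstance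
  haveI hP₀n : P₀.Normal := ConjAct.normal_of_characteristic_of_normal
  have hP₀F : P₀ ≤ F := (CfsgLib.Solvable.le_pCore q hP₀n hP₀p).trans
    (CfsgLib.Solvable.pCore_le_fittingSubgroup q)
  intro x hx
  obtain ⟨y, hy, hyx⟩ := hdecomp x hx
  rw [← mul_inv_cancel_left y x]
  exact mul_mem (hP₀F hy) hyx

variable (G) in
/-- Conjugation on the Frattini quotient of a core. -/
noncomputable def actV (p : ℕ) : G →* MulAut (Cfsg.pCore p G ⧸ frattini (Cfsg.pCore p G)) :=
  haveI : (Cfsg.pCore p G).Normal := CfsgLib.Solvable.pCore_normal p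
  { toFun := fun g => quotAut (frattini (Cfsg.pCore p G)) (MulAut.conjNormal g)
      fun x hx => Subgroup.characteristic_iff_le_comap.1 frattini_characteristic (MulAut.conjNormal g) hx
    map_one' := MulEquiv.ext fun v => by
      induction v using QuotientGroup.induction_on with
      | _ v =>
        show ((MulAut.conjNormal (1 : G) v : Cfsg.pCore p G) : Cfsg.pCore p G ⧸ frattini (Cfsg.pCore p G)) = _
        rw [map_one]
        rfl
    map_mul' := fun a b => MulEquiv.ext fun v => by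
      induction v using QuotientGroup.induction_on with
      | _ v =>
        show ((MulAut.conjNormal (a * b) v : Cfsg.pCore p G) : Cfsg.pCore p G ⧸ frattini (Cfsg.pCore p G)) = _
        rw [map_mul]
        rfl }

theorem actV_eq_one {p : ℕ} {g : G} (h : actV G p g = 1) (v : Cfsg.pCore p G) :
    haveI : (Cfsg.pCore p G).Normal := CfsgLib.Solvable.pCore_normal p
    v⁻¹ * MulAut.conjNormal g v ∈ frattini (Cfsg.pCore p G) :=
  QuotientGroup.eq.1 (MulEquiv.congr_fun h (v : Cfsg.pCore p G ⧸ frattini (Cfsg.pCore p G))).symm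

theorem fitting_le_ker {p : ℕ} (hp : p.Prime) : Cfsg.fittingSubgroup G ≤ (actV G p).ker := by
  haveI := Fact.mk hp
  haveI : (Cfsg.pCore p G).Normal := CfsgLib.Solvable.pCore_normal p
  rw [CfsgLib.Solvable.fittingSubgroup_eq_iSup_pCore]
  refine iSup_le fun q y hy => ?_
  rw [MonoidHom.mem_ker]
  ext v
  induction v using QuotientGroup.induction_on with
  | _ v =>
    symm
    refine QuotientGroup.eq.2 ?_
    show v⁻¹ * MulAut.conjNormal y v ∈ frattini (Cfsg.pCore p G)
    by_cases hq : (q : ℕ) = p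
    · rw [hq] at hy
      rw [show v⁻¹ * MulAut.conjNormal y v = ⁅v⁻¹, (⟨y, hy⟩ : Cfsg.pCore p G)⁆ from Subtype.ext (by
        simp only [commutatorElement_def, Subgroup.coe_mul, Subgroup.coe_inv, MulAut.conjNormal_apply, inv_inv]
        group)]
      exact (CfsgLib.PGroupBasic.commutator_pow_le_frattini (CfsgLib.Solvable.isPGroup_pCore p)).1
        (Subgroup.commutator_mem_commutator (Subgroup.mem_top _) (Subgroup.mem_top _))
    · rw [show MulAut.conjNormal y v = v from Subtype.ext (by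
        rw [MulAut.conjNormal_apply, commute_pCore q.2 hp hq hy v.2, mul_inv_cancel_right]), inv_mul_cancel]
      exact one_mem _

/-- The cores of the quotient by the Fitting subgroup are represented without fixed vectors. -/
theorem hasFpf_core {σ : MulAut G} {n : ℕ} (hσ : σ ^ 2 ^ (n + 1) = 1) (hfpf : ∀ g, σ g = g → g = 1) {r : ℕ}
    (hr : r.Prime) :
    HasFpf (Cfsg.pCore r (G ⧸ Cfsg.fittingSubgroup G))
      (resAut (Cfsg.pCore r (G ⧸ Cfsg.fittingSubgroup G))
        (quotAut (Cfsg.fittingSubgroup G) σ fun _ hx => fitting_map σ hx) fun _ hx => pCore_map r _ hx) n := by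
  classical
  haveI := Fact.mk hr
  set F := Cfsg.fittingSubgroup G with hF
  set σH := quotAut F σ fun _ hx => fitting_map σ hx with hσH
  set R := Cfsg.pCore r (G ⧸ F) with hR
  haveI : R.Normal := CfsgLib.Solvable.pCore_normal r
  have hRp : IsPGroup r R := CfsgLib.Solvable.isPGroup_pCore r
  have hodd := not_dvd_card Nat.prime_two hσ hfpf
  intro z hz
  obtain ⟨p, hp, hpr, g, hgz, hpne⟩ : ∃ p : ℕ, p.Prime ∧ p ≠ r ∧ ∃ g : G, (g : G ⧸ F) = z ∧ actV G p g ≠ 1 := by
    by_contra hcon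
    push Not at hcon
    obtain ⟨g, hg⟩ := QuotientGroup.mk'_surjective F (z : G ⧸ F)
    let N : Subgroup G := R.comap (QuotientGroup.mk' F) ⊓ ⨅ p : {p : Nat.Primes // (p : ℕ) ≠ r}, (actV G p).ker
    haveI : (⨅ p : {p : Nat.Primes // (p : ℕ) ≠ r}, (actV G p).ker).Normal :=
      Subgroup.normal_iInf_normal fun p => inferInstance
    haveI : N.Normal := inferInstance
    have hFN : F ≤ N := le_inf (fun x hx => by
        rw [Subgroup.mem_comap, QuotientGroup.mk'_apply, (QuotientGroup.eq_one_iff x).2 hx]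
        exact one_mem _)
      (le_iInf fun p => fitting_le_ker p.1.2)
    have hNF : N ≤ F := by
      refine le_fitting hr N ((CfsgLib.Solvable.pCore_le_fittingSubgroup r).trans hFN) (fun x hx => ?_) ?_
      · obtain ⟨a, ha⟩ := hRp ⟨_, hx.1⟩
        exact ⟨a, (QuotientGroup.eq_one_iff _).1 (congrArg Subtype.val ha :)⟩
      · rintro x hx ⟨a, ha⟩ p hp hpr v hv
        haveI := Fact.mk hp
        haveI : (Cfsg.pCore p G).Normal := CfsgLib.Solvable.pCore_normal p
        have hk : actV G p x = 1 :=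
          MonoidHom.mem_ker.1 ((Subgroup.mem_iInf.1 hx.2) ⟨⟨p, hp⟩, hpr⟩)
        let A := Subgroup.zpowers x
        letI : MulDistribMulAction A (Cfsg.pCore p G) :=
          MulDistribMulAction.compHom _ ((MulAut.conjNormal (H := Cfsg.pCore p G)).comp A.subtype)
        have hcop : (Nat.card A).Coprime (Nat.card (Cfsg.pCore p G)) := by
          obtain ⟨i, -, hi⟩ := (Nat.dvd_prime_pow hr).1 (orderOf_dvd_of_pow_eq_one ha)
          obtain ⟨j, hj⟩ := (CfsgLib.Solvable.isPGroup_pCore (G := G) p).exists_card_eq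
          rw [Nat.card_zpowers, hi, hj]
          exact Nat.coprime_pow_primes _ _ hr hp (Ne.symm hpr)
        have hall : ∀ b : A, actV G p (b : G) = 1 := fun b => by
          obtain ⟨i, hi⟩ := Subgroup.mem_zpowers_iff.1 b.2
          rw [← hi, map_zpow, hk, one_zpow]
        have hfix := CfsgLib.Coprime.smul_eq_self_of_trivial_mod_frattini hcop
          (fun b w => actV_eq_one (hall b) w) ⟨x, Subgroup.mem_zpowers x⟩ ⟨v, hv⟩
        have e : x * v * x⁻¹ = v := congrArg Subtype.val hfix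
        exact mul_inv_eq_iff_eq_mul.1 e
    refine hz (Subtype.ext ?_)
    rw [OneMemClass.coe_one, ← hg, QuotientGroup.mk'_apply, QuotientGroup.eq_one_iff]
    exact hNF ⟨show QuotientGroup.mk' F g ∈ R by rw [hg]; exact z.2,
      Subgroup.mem_iInf.2 fun p => MonoidHom.mem_ker.2 (hcon p p.1.2 p.2 g hg)⟩
  haveI := Fact.mk hp
  haveI : (Cfsg.pCore p G).Normal := CfsgLib.Solvable.pCore_normal p
  set K := Cfsg.pCore p G with hK
  let Φ := frattini K
  have hKp : IsPGroup p K := CfsgLib.Solvable.isPGroup_pCore p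
  obtain ⟨hcomm, hexp⟩ := CfsgLib.PGroupBasic.commutator_pow_le_frattini hKp
  have hp2 : p ≠ 2 := by
    rintro rfl
    refine hpne (MulEquiv.ext fun v => ?_)
    induction v using QuotientGroup.induction_on with
    | _ v =>
      rcases hKp.card_eq_or_dvd with h | h
      · haveI := (Nat.card_eq_one_iff_unique.1 h).1
        rw [Subsingleton.elim v 1, QuotientGroup.mk_one, map_one, map_one]
      · exact absurd (h.trans K.card_subgroup_dvd_card) hodd
  letI : CommGroup (K ⧸ Φ) := { (inferInstance : Group (K ⧸ Φ)) with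
    mul_comm := fun a b => by
      induction a using QuotientGroup.induction_on with
      | _ a =>
        induction b using QuotientGroup.induction_on with
        | _ b =>
          rw [← QuotientGroup.mk_mul, ← QuotientGroup.mk_mul, QuotientGroup.eq,
            show (a * b)⁻¹ * (b * a) = ⁅b⁻¹, a⁻¹⁆ by simp only [commutatorElement_def]; group]
          exact hcomm (Subgroup.commutator_mem_commutator (Subgroup.mem_top _) (Subgroup.mem_top _)) }
  letI : Module (ZMod p) (Additive (K ⧸ Φ)) :=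
    AddCommGroup.zmodModule (n := p) (G := Additive (K ⧸ Φ)) (fun v => by
      show Additive.ofMul (Additive.toMul v ^ p) = _
      generalize Additive.toMul v = w
      induction w using QuotientGroup.induction_on with
      | _ w => rw [← QuotientGroup.mk_pow, (QuotientGroup.eq_one_iff _).2 (hexp w)]; rfl)
  have hM : Module (ZMod p) (Additive (K ⧸ Φ)) := inferInstance
  let k := AlgebraicClosure (ZMod p)
  haveI : CharP k p := charP_of_injective_algebraMap (algebraMap (ZMod p) k).injective p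
  haveI : Module.Finite (ZMod p) (Additive (K ⧸ Φ)) := Module.Finite.of_finite
  let lin : MulAut (K ⧸ Φ) →* Module.End (ZMod p) (Additive (K ⧸ Φ)) := autLin p
  let bc : Module.End (ZMod p) (Additive (K ⧸ Φ)) →* Module.End k (k ⊗[ZMod p] Additive (K ⧸ Φ)) :=
    (Module.End.baseChangeHom (ZMod p) k (Additive (K ⧸ Φ))).toRingHom.toMonoidHom
  have hbc : Function.Injective bc := LinearMap.baseChangeHom_injective (ZMod p) (Additive (K ⧸ Φ)) k
  let Lr : MulAut (K ⧸ Φ) →* Module.End k (k ⊗[ZMod p] Additive (K ⧸ Φ)) := bc.comp lin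
  have hKσ : ∀ x ∈ K, σ x ∈ K := fun _ hx => pCore_map p σ hx
  let σK := CfsgLib.ShultGross.subAut K σ hKσ
  have hΦσ : ∀ x ∈ Φ, σK x ∈ Φ := fun x hx =>
    Subgroup.characteristic_iff_le_comap.1 frattini_characteristic σK hx
  let c : MulAut (K ⧸ Φ) := quotAut Φ σK hΦσ
  have hcfpf : ∀ v, c v = v → v = 1 :=
    quotAut_fpf (fun (x : K) (hx : σK x = x) => Subtype.ext (hfpf x (congrArg Subtype.val hx))) hΦσ
  have hc : c ^ 2 ^ (n + 1) = 1 := MulEquiv.ext fun v => by
    induction v using QuotientGroup.induction_on with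
    | _ v =>
      rw [quotAut_pow]
      exact congrArg (QuotientGroup.mk (s := Φ)) (Subtype.ext (by
        rw [CfsgLib.ShultGross.subAut_pow, hσ]; rfl))
  have hcompat : ∀ (g : G) (v : K ⧸ Φ), c (actV G p g v) = actV G p (σ g) (c v) := fun g v => by
    induction v using QuotientGroup.induction_on with
    | _ v =>
      refine congrArg (QuotientGroup.mk (s := Φ)) (Subtype.ext ?_)
      show σ ((MulAut.conjNormal g v : K) : G) = ((MulAut.conjNormal (σ g) (σK v) : K) : G)
      rw [MulAut.conjNormal_apply, MulAut.conjNormal_apply, map_mul, map_mul, map_inv]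
      rfl
  let π₀ : G ⧸ F →* Module.End k (k ⊗[ZMod p] Additive (K ⧸ Φ)) :=
    QuotientGroup.lift F (Lr.comp (actV G p)) fun x hx => by
      rw [MonoidHom.mem_ker, MonoidHom.comp_apply, MonoidHom.mem_ker.1 (fitting_le_ker hp hx), map_one]
  refine ⟨k, inferInstance, inferInstance, k ⊗[ZMod p] Additive (K ⧸ Φ), inferInstance, inferInstance, inferInstance,
    π₀.comp R.subtype, Lr c, ?_, ?_, ?_, by rw [← map_pow, hc, map_one], ?_, ?_⟩
  · rw [MonoidHom.comp_apply, Subgroup.subtype_apply, ← hgz]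
    exact fun h => hpne ((hbc.comp (autLin_injective p)) (h.trans (map_one Lr).symm))
  · intro h
    obtain ⟨a, ha⟩ := hRp.exists_card_eq
    rw [CharP.cast_eq_zero_iff k p, ha] at h
    exact hpr ((Nat.prime_dvd_prime_iff_eq hp hr).1 (hp.dvd_of_dvd_pow h))
  · exact fun h => hp2 ((Nat.prime_dvd_prime_iff_eq hp Nat.prime_two).1
      ((CharP.cast_eq_zero_iff k p 2).1 (by exact_mod_cast h)))
  · rintro ⟨x, hx⟩
    induction x using QuotientGroup.induction_on with
    | _ g =>
      show Lr c * Lr (actV G p g) = Lr (actV G p (σ g)) * Lr c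
      rw [← map_mul, ← map_mul]
      exact congrArg Lr (MulEquiv.ext fun v => hcompat g v)
  · have h0 : ∑ i ∈ Finset.range (2 ^ (n + 1)), lin (c ^ i) = 0 := by
      refine LinearMap.ext fun v => ?_
      obtain ⟨v, rfl⟩ := Additive.ofMul.surjective v
      rw [LinearMap.sum_apply, LinearMap.zero_apply]
      show ∑ i ∈ Finset.range (2 ^ (n + 1)), autLin p (c ^ i) (Additive.ofMul v) = 0
      simp only [autLin_apply]
      rw [← ofMul_prod]
      have h1 : ∏ i ∈ Finset.range (2 ^ (n + 1)), (c ^ i) v = 1 := hcfpf _ (by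
        obtain ⟨N', hN'⟩ : ∃ N', 2 ^ (n + 1) = N' + 1 :=
          ⟨2 ^ (n + 1) - 1, (Nat.sub_add_cancel Nat.one_le_two_pow).symm⟩
        rw [map_prod, Finset.prod_congr rfl fun i _ => show c ((c ^ i) v) = (c ^ (i + 1)) v by
          rw [pow_succ', MulAut.mul_apply], hN']
        conv_lhs => rw [Finset.prod_range_succ]
        conv_rhs => rw [Finset.prod_range_succ']
        rw [← hN', hc, pow_zero])
      rw [h1]
      rfl
    have h1 := congrArg (Module.End.baseChangeHom (ZMod p) k (Additive (K ⧸ Φ))) h0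
    rw [map_sum, map_zero] at h1
    intro w
    rw [← LinearMap.sum_apply, ← LinearMap.zero_apply (M := k ⊗[ZMod p] Additive (K ⧸ Φ)) (σ₁₂ := RingHom.id k) w,
      ← h1]
    exact congrArg (· w) (Finset.sum_congr rfl fun i _ => (map_pow Lr c i).symm)

/-- The moves of the involutory power lie in the second Fitting subgroup. -/
theorem moves_mem_fitting {σ : MulAut G} {n : ℕ} (hG : Group.IsSolvable G) (hσ : σ ^ 2 ^ (n + 1) = 1)
    (hfpf : ∀ g, σ g = g → g = 1) (g : G) :
    ((g⁻¹ * (σ ^ 2 ^ n) g : G) : G ⧸ Cfsg.fittingSubgroup G) ∈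
      Cfsg.fittingSubgroup (G ⧸ Cfsg.fittingSubgroup G) := by
  classical
  haveI := hG
  set F := Cfsg.fittingSubgroup G with hF
  set σH := quotAut F σ fun _ hx => fitting_map σ hx with hσH
  have hσHN : σH ^ 2 ^ (n + 1) = 1 := MulEquiv.ext fun y => by
    induction y using QuotientGroup.induction_on with
    | _ g => rw [quotAut_pow, hσ]; rfl
  have hHfpf : ∀ y, σH y = y → y = 1 := quotAut_fpf hfpf _
  set F₂ := Cfsg.fittingSubgroup (G ⧸ F) with hF₂
  have hF₂σ : ∀ x ∈ F₂, σH x ∈ F₂ := fun _ hx => fitting_map σH hx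
  set σ₂ := quotAut F₂ σH hF₂σ with hσ₂
  have hσ₂N : σ₂ ^ 2 ^ (n + 1) = 1 := MulEquiv.ext fun y => by
    induction y using QuotientGroup.induction_on with
    | _ g => rw [quotAut_pow, hσHN]; rfl
  have hfpf₂ : ∀ y, σ₂ y = y → y = 1 := quotAut_fpf hHfpf _
  have hodd := not_dvd_card Nat.prime_two hσHN hHfpf
  have hodd₂ := not_dvd_card Nat.prime_two hσ₂N hfpf₂
  suffices h : ∀ y : (G ⧸ F) ⧸ F₂, (σ₂ ^ 2 ^ n) y = y by
    have h1 := h ((g : G ⧸ F) : (G ⧸ F) ⧸ F₂)
    rw [quotAut_pow, QuotientGroup.eq, quotAut_pow] at h1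
    have h2 := inv_mem h1
    rw [mul_inv_rev, inv_inv] at h2
    rw [QuotientGroup.mk_mul, QuotientGroup.mk_inv]
    exact h2
  -- the fixed points of the involutory power contain the Fitting subgroup
  have hcore : ∀ q : Nat.Primes, ∀ z ∈ Cfsg.pCore (q : ℕ) ((G ⧸ F) ⧸ F₂), (σ₂ ^ 2 ^ n) z = z := by
    intro q z hz
    haveI := Fact.mk q.2
    rcases eq_or_ne (q : ℕ) 2 with hq2 | hq2
    · rcases (CfsgLib.Solvable.isPGroup_pCore (G := (G ⧸ F) ⧸ F₂) (q : ℕ)).card_eq_or_dvd with h | h
      · haveI := (Nat.card_eq_one_iff_unique.1 h).1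
        rw [show z = 1 from congrArg Subtype.val
          (Subsingleton.elim (⟨z, hz⟩ : Cfsg.pCore (q : ℕ) ((G ⧸ F) ⧸ F₂)) 1), map_one]
      · exact absurd ((hq2 ▸ h).trans (Subgroup.card_subgroup_dvd_card _)) hodd₂
    set O := Cfsg.pCore (q : ℕ) ((G ⧸ F) ⧸ F₂) with hO
    haveI : O.Normal := CfsgLib.Solvable.pCore_normal _
    set N := O.comap (QuotientGroup.mk' F₂) with hN
    have hNσ : ∀ x ∈ N, σH x ∈ N := fun x hx => pCore_map _ σ₂ hx
    have hF₂N : F₂ ≤ N := fun x hx => by
      rw [Subgroup.mem_comap, QuotientGroup.mk'_apply, (QuotientGroup.eq_one_iff x).2 hx]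
      exact one_mem _
    let σN := resAut N σH hNσ
    have hσNN : σN ^ 2 ^ (n + 1) = 1 := MulEquiv.ext fun x => Subtype.ext (by rw [resAut_pow, hσHN]; rfl)
    let A := Subgroup.zpowers σN
    letI : MulDistribMulAction A N := MulDistribMulAction.compHom N A.subtype
    have hcop : (Nat.card A).Coprime (Nat.card N) := by
      obtain ⟨i, -, hi⟩ := (Nat.dvd_prime_pow Nat.prime_two).1 (orderOf_dvd_of_pow_eq_one hσNN)
      rw [Nat.card_zpowers, hi]
      exact ((Nat.prime_two.coprime_iff_not_dvd).2 fun h => hodd (h.trans N.card_subgroup_dvd_card)).pow_left i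
    obtain ⟨P, hP⟩ := CfsgLib.Coprime.exists_invariant_sylow (A := A) hcop (q : ℕ)
    have hPσ : ∀ x ∈ (P : Subgroup N), σN x ∈ (P : Subgroup N) := fun x hx =>
      hP ⟨σN, Subgroup.mem_zpowers σN⟩ x hx
    let f : N →* O := (QuotientGroup.mk' F₂).subgroupComap O
    have hfs : Function.Surjective f :=
      (QuotientGroup.mk' F₂).subgroupComap_surjective_of_surjective O (QuotientGroup.mk'_surjective F₂)
    have htop : ((P.mapSurjective hfs : Sylow (q : ℕ) O) : Subgroup O) = ⊤ :=
      ((P.mapSurjective hfs).3 ((CfsgLib.Solvable.isPGroup_pCore (q : ℕ)).to_subgroup ⊤) le_top).symm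
    have hmem : (⟨z, hz⟩ : O) ∈ ((P.mapSurjective hfs : Sylow (q : ℕ) O) : Subgroup O) :=
      htop ▸ Subgroup.mem_top _
    rw [Sylow.coe_mapSurjective] at hmem
    obtain ⟨y, hy, hyz⟩ := hmem
    have hyz' : ((y : G ⧸ F) : (G ⧸ F) ⧸ F₂) = z := congrArg Subtype.val hyz
    rw [← hyz', quotAut_pow, QuotientGroup.eq]
    -- the moved element centralises the other cores
    let K : Subgroup (G ⧸ F) :=
      N ⊓ ⨅ r : {r : Nat.Primes // r ≠ q}, Subgroup.centralizer (Cfsg.pCore (r : ℕ) (G ⧸ F) : Set (G ⧸ F))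
    haveI : (⨅ r : {r : Nat.Primes // r ≠ q},
        Subgroup.centralizer (Cfsg.pCore (r : ℕ) (G ⧸ F) : Set (G ⧸ F))).Normal :=
      Subgroup.normal_iInf_normal fun r =>
        haveI : (Cfsg.pCore (r : ℕ) (G ⧸ F)).Normal := CfsgLib.Solvable.pCore_normal _
        inferInstance
    haveI : K.Normal := inferInstance
    suffices hw : ((σH ^ 2 ^ n) (y : G ⧸ F))⁻¹ * (y : G ⧸ F) ∈ K by
      refine le_fitting q.2 K ?_ ?_ ?_ hw
      · refine le_inf ((CfsgLib.Solvable.pCore_le_fittingSubgroup _).trans hF₂N) (le_iInf fun r x hx => ?_)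
        exact Subgroup.mem_centralizer_iff.2 fun v hv =>
          commute_pCore r.1.2 q.2 (fun e => r.2 (Subtype.ext e)) hv hx
      · intro x hx
        obtain ⟨a, ha⟩ := (CfsgLib.Solvable.isPGroup_pCore (G := (G ⧸ F) ⧸ F₂) (q : ℕ)) ⟨_, hx.1⟩
        exact ⟨a, (QuotientGroup.eq_one_iff _).1 (congrArg Subtype.val ha :)⟩
      · intro x hx _ r hr hrq v hv
        exact (Subgroup.mem_centralizer_iff.1
          (Subgroup.mem_iInf.1 hx.2 ⟨⟨r, hr⟩, fun e => hrq (congrArg Subtype.val e)⟩) v hv).symm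
    refine Subgroup.mem_inf.2 ⟨mul_mem (inv_mem (pow_mem_of_invariant hNσ _ _ y.2)) y.2, Subgroup.mem_iInf.2 fun r => ?_⟩
    haveI := Fact.mk r.1.2
    set T := Cfsg.pCore (r : ℕ) (G ⧸ F) with hT
    haveI : T.Normal := CfsgLib.Solvable.pCore_normal _
    have hTp : IsPGroup (r : ℕ) T := CfsgLib.Solvable.isPGroup_pCore _
    rw [Subgroup.mem_centralizer_iff]
    intro v hv
    rcases eq_or_ne (r : ℕ) 2 with hr2 | hr2
    · rcases hTp.card_eq_or_dvd with h | h
      · haveI := (Nat.card_eq_one_iff_unique.1 h).1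
        rw [show v = 1 from congrArg Subtype.val (Subsingleton.elim (⟨v, hv⟩ : T) 1), one_mul, mul_one]
      · exact absurd ((hr2 ▸ h).trans T.card_subgroup_dvd_card) hodd
    let σT := resAut T σH fun _ hx => pCore_map _ σH hx
    have hσT : σT ^ 2 ^ (n + 1) = 1 := MulEquiv.ext fun x => Subtype.ext (by rw [resAut_pow, hσHN]; rfl)
    let σQ := resAut (P : Subgroup N) σN hPσ
    let act : (P : Subgroup N) →* MulAut T :=
      ((MulAut.conjNormal (H := T)).comp N.subtype).comp (P : Subgroup N).subtype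
    have hact : ∀ (s : (P : Subgroup N)) (x : T), σT (act s x) = act (σQ s) (σT x) := fun s x => Subtype.ext (by
      show σH ((MulAut.conjNormal ((s : N) : G ⧸ F) x : T) : G ⧸ F) =
        ((MulAut.conjNormal (σH ((s : N) : G ⧸ F)) (σT x) : T) : G ⧸ F)
      rw [MulAut.conjNormal_apply, MulAut.conjNormal_apply, map_mul, map_mul, map_inv]
      rfl)
    have h1 := moves_trivial q.2 hq2 r.1.2 hr2 (fun e => r.2 (Subtype.ext e.symm)) P.2 hTp hσT
      (hasFpf_core hσ hfpf r.1.2) act hact ⟨y, hy⟩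
    have h2 := congrArg Subtype.val (MulEquiv.congr_fun h1 ⟨v, hv⟩)
    have e : (((σQ ^ 2 ^ n) ⟨y, hy⟩ : (P : Subgroup N)) : N).1 = (σH ^ 2 ^ n) (y : G ⧸ F) := by
      rw [resAut_pow, resAut_pow]
    change (((σQ ^ 2 ^ n) ⟨y, hy⟩ : (P : Subgroup N)) : N).1 * v *
      ((((σQ ^ 2 ^ n) ⟨y, hy⟩ : (P : Subgroup N)) : N).1)⁻¹ = (y : G ⧸ F) * v * (y : G ⧸ F)⁻¹ at h2
    rw [e] at h2
    set a := (σH ^ 2 ^ n) (y : G ⧸ F)
    calc v * (a⁻¹ * (y : G ⧸ F)) = a⁻¹ * (a * v * a⁻¹) * (y : G ⧸ F) := by group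
      _ = a⁻¹ * (y : G ⧸ F) * v := by rw [h2]; group
  intro y
  set F₃ := Cfsg.fittingSubgroup ((G ⧸ F) ⧸ F₂) with hF₃
  let Fix : Subgroup ((G ⧸ F) ⧸ F₂) :=
    { carrier := {x | (σ₂ ^ 2 ^ n) x = x}
      one_mem' := map_one _
      mul_mem' := fun {a b} ha hb => by simp only [Set.mem_ofPred_eq] at ha hb ⊢; rw [map_mul, ha, hb]
      inv_mem' := fun {a} ha => by simp only [Set.mem_ofPred_eq] at ha ⊢; rw [map_inv, ha] }
  have hFix : F₃ ≤ Fix := by
    rw [hF₃, CfsgLib.Solvable.fittingSubgroup_eq_iSup_pCore]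
    exact iSup_le fun q z hz => hcore q z hz
  have hw : y⁻¹ * (σ₂ ^ 2 ^ n) y ∈ F₃ := by
    refine CfsgLib.Fitting.centralizer_fittingSubgroup_le_of_solvable (Subgroup.mem_centralizer_iff.2 fun f hf => ?_)
    have h1 := hFix ((inferInstance : F₃.Normal).conj_mem f hf y)
    change (σ₂ ^ 2 ^ n) (y * f * y⁻¹) = y * f * y⁻¹ at h1
    rw [map_mul, map_mul, map_inv, (hFix hf : (σ₂ ^ 2 ^ n) f = f)] at h1
    set b := (σ₂ ^ 2 ^ n) y
    calc f * (y⁻¹ * b) = y⁻¹ * (y * f * y⁻¹) * b := by group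
      _ = y⁻¹ * b * f := by rw [← h1]; group
  have h2 : (σ₂ ^ 2 ^ n) (y⁻¹ * (σ₂ ^ 2 ^ n) y) = y⁻¹ * (σ₂ ^ 2 ^ n) y := hFix hw
  have h3 : (σ₂ ^ 2 ^ n) ((σ₂ ^ 2 ^ n) y) = y := by
    rw [← MulAut.mul_apply, ← sq, ← pow_mul, ← pow_succ, hσ₂N, MulAut.one_apply]
  rw [map_mul, map_inv, h3] at h2
  by_contra hne
  set b := (σ₂ ^ 2 ^ n) y
  have h4 : (y⁻¹ * b) ^ 2 = 1 := by
    rw [sq]
    nth_rewrite 1 [← h2]
    group
  exact hodd₂ ((orderOf_eq_prime (hp := Fact.mk Nat.prime_two) h4 fun e => hne (inv_mul_eq_one.1 e).symm) ▸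
    orderOf_dvd_natCard (y⁻¹ * b))

/-- Adding two terms to a series. -/
theorem extend_series {L : ℕ} (K : Subgroup G) [K.Normal] (M : Subgroup G) [M.Normal] (hMK : M ≤ K)
    (hM : ∃ k, M.lowerCentralSeries k = ⊥) (hK : ∃ k, K.lowerCentralSeries k ≤ M)
    (F' : Fin (L + 1) → Subgroup (G ⧸ K)) (h0 : F' 0 = ⊥) (hlast : F' (Fin.last L) = ⊤) (hmono : Monotone F')
    (hnorm : ∀ i, (F' i).Normal) (hlcs : ∀ i : Fin L, ∃ k : ℕ, (F' i.succ).lowerCentralSeries k ≤ F' i.castSucc) :
    ∃ F : Fin (L + 2 + 1) → Subgroup G, F 0 = ⊥ ∧ F (Fin.last (L + 2)) = ⊤ ∧ Monotone F ∧ (∀ i, (F i).Normal) ∧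
      ∀ i : Fin (L + 2), ∃ k : ℕ, (F i.succ).lowerCentralSeries k ≤ F i.castSucc := by
  let F : Fin (L + 3) → Subgroup G :=
    Fin.cases ⊥ (Fin.cases M fun i => (F' i).comap (QuotientGroup.mk' K))
  have hF0 : F 0 = ⊥ := rfl
  have hF1 : F (Fin.succ 0) = M := rfl
  have hFs : ∀ i, F (Fin.succ (Fin.succ i)) = (F' i).comap (QuotientGroup.mk' K) := fun i => rfl
  have hK0 : (F' 0).comap (QuotientGroup.mk' K) = K := by rw [h0, MonoidHom.comap_bot, QuotientGroup.ker_mk']
  refine ⟨F, hF0, ?_, ?_, ?_, ?_⟩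
  · rw [← Fin.succ_last, ← Fin.succ_last, hFs, hlast, Subgroup.comap_top]
  · rw [Fin.monotone_iff_le_succ]
    intro i
    induction i using Fin.cases with
    | zero => exact bot_le
    | succ i =>
      induction i using Fin.cases with
      | zero => rw [← Fin.succ_castSucc, hFs, hK0]; exact hMK
      | succ i =>
        rw [← Fin.succ_castSucc, ← Fin.succ_castSucc, hFs, hFs]
        exact Subgroup.comap_mono (hmono (Fin.castSucc_le_succ i))
  · intro i
    induction i using Fin.cases with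
    | zero => rw [hF0]; infer_instance
    | succ i =>
      induction i using Fin.cases with
      | zero => rw [hF1]; infer_instance
      | succ i => rw [hFs]; haveI := hnorm i; infer_instance
  · intro i
    induction i using Fin.cases with
    | zero => rw [hF1]; obtain ⟨k, hk⟩ := hM; exact ⟨k, hk.trans_le bot_le⟩
    | succ i =>
      induction i using Fin.cases with
      | zero => rw [hFs, hK0, ← Fin.succ_castSucc]; exact hK
      | succ i =>
        obtain ⟨k, hk⟩ := hlcs i
        refine ⟨k, ?_⟩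
        rw [← Fin.succ_castSucc, ← Fin.succ_castSucc, hFs, hFs, ← Subgroup.map_le_iff_le_comap,
          Subgroup.map_lowerCentralSeries]
        exact (Subgroup.lowerCentralSeries_mono k (Subgroup.map_comap_le _ _)).trans hk

/-- The series, by induction on the exponent. -/
theorem exists_series : ∀ (n : ℕ) (G : Type u) [Group G] [Finite G],
    Group.IsSolvable G → ∀ σ : MulAut G, σ ^ 2 ^ (n + 2) = 1 → (∀ g, σ g = g → g = 1) →
      ∃ F : Fin (2 * (n + 1) + 1) → Subgroup G, F 0 = ⊥ ∧ F (Fin.last (2 * (n + 1))) = ⊤ ∧ Monotone F ∧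
        (∀ i, (F i).Normal) ∧ ∀ i : Fin (2 * (n + 1)), ∃ k : ℕ, (F i.succ).lowerCentralSeries k ≤ F i.castSucc := by
  intro n
  induction n with
  | zero =>
    intro G _ _ hG σ hσ hfpf
    have hnil : Group.IsNilpotent (commutator G) :=
      Cfsg.Agent.S3794.aux _ G rfl hG σ (by simpa using hσ) hfpf
    exact extend_series (L := 0) ⊤ (commutator G) le_top ((Subgroup.isNilpotent_iff_lowerCentralSeries _).1 hnil)
      ⟨1, le_of_eq rfl⟩ (fun _ => ⊥) rfl (by
        haveI : Subsingleton (G ⧸ (⊤ : Subgroup G)) := QuotientGroup.subsingleton_quotient_top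
        exact Subsingleton.elim _ _) monotone_const (fun _ => inferInstance) fun i => i.elim0
  | succ n ih =>
    intro G _ _ hG σ hσ hfpf
    set K := moves (σ ^ 2 ^ (n + 2)) with hK
    haveI : K.Normal := Subgroup.normalClosure_normal
    have hKσ : ∀ x ∈ K, σ x ∈ K := fun x hx => map_mem_moves (Commute.self_pow σ _) hx
    haveI := hG
    obtain ⟨F', h0, hlast, hmono, hnorm, hlcs⟩ := ih (G ⧸ K) inferInstance (quotAut K σ hKσ)
      (MulEquiv.ext fun y => by
        induction y using QuotientGroup.induction_on with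
        | _ g =>
          rw [quotAut_pow, MulAut.one_apply, eq_comm, QuotientGroup.eq]
          exact mem_moves _ g) (quotAut_fpf hfpf hKσ)
    set F := Cfsg.fittingSubgroup G with hF
    haveI : Group.IsNilpotent F := CfsgLib.Solvable.isNilpotent_fittingSubgroup
    have hle : K.map (QuotientGroup.mk' F) ≤ Cfsg.fittingSubgroup (G ⧸ F) :=
      Subgroup.map_le_iff_le_comap.2 (moves_le fun g => moves_mem_fitting hG hσ hfpf g)
    refine extend_series (L := 2 * (n + 1)) K (K ⊓ F) inf_le_left ?_ ?_ F' h0 hlast hmono hnorm hlcs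
    · obtain ⟨k, hk⟩ := (Subgroup.isNilpotent_iff_lowerCentralSeries F).1 inferInstance
      exact ⟨k, le_bot_iff.1 ((Subgroup.lowerCentralSeries_mono k inf_le_right).trans hk.le)⟩
    · obtain ⟨k, hk⟩ := (Subgroup.isNilpotent_iff_lowerCentralSeries (Cfsg.fittingSubgroup (G ⧸ F))).1
        CfsgLib.Solvable.isNilpotent_fittingSubgroup
      refine ⟨k, le_inf (K.lowerCentralSeries_le_self k) ?_⟩
      rw [← QuotientGroup.ker_mk' F, ← Subgroup.map_eq_bot_iff, Subgroup.map_lowerCentralSeries]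
      exact le_bot_iff.1 ((Subgroup.lowerCentralSeries_mono k hle).trans hk.le)

end CfsgLib.GrossFit
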