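import Cfsg.Agent.GrossFit.Count
import Cfsg.Agent.ShultGross.Arith
import Mathlib

/-!
Numerical consequences of the multiplicity bound.
-/

set_option autoImplicit false
set_option linter.style.haveILetI false
set_option linter.unusedSectionVars false

namespace CfsgLib.GrossFit

open Module CfsgLib.PQFpf

variable {k : Type*} [Field k] {W : Type*} [AddCommGroup W] [Module k W]
variable {S : Type*} [Group S] {π : S →* Module.End k W} {R : Subgroup S}

/-- The bound for an operator without fixed vectors. -/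
theorem no_one_bound [IsAlgClosed k] [Finite S] [FiniteDimensional k W] [Nontrivial W]
    (F : FormRep π R) [R.Normal] [Fintype (S ⧸ R)] (hm : (Fintype.card (S ⧸ R) : k) ≠ 0)
    (b : MulAut S) (bq : Equiv.Perm (S ⧸ R)) (hbq : ∀ x : S, bq (x : S ⧸ R) = ((b x : S) : S ⧸ R))
    {ℓ : ℕ} (hℓ : 1 < ℓ) (hℓk : (ℓ : k) ≠ 0) (hord : orderOf bq = ℓ)
    (B : Module.End k W) (hB : B ^ ℓ = 1) (hcompat : ∀ x, B * π x = π (b x) * B)
    (hsum : ∀ w, ∑ i ∈ Finset.range ℓ, (B ^ i) w = 0) :
    ∃ x : ℕ, x * x = Fintype.card (S ⧸ R) ∧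
      ℓ * x ≤ ∑ i ∈ Finset.range ℓ, Nat.card {y : S ⧸ R // (bq ^ i) y = y} ∧
      ℓ * (x * x) ≤ (ℓ - 1) * ∑ i ∈ Finset.range ℓ, Nat.card {y : S ⧸ R // (bq ^ i) y = y} := by
  classical
  obtain ⟨U, hU, hUB, hsq, hone⟩ := exists_piece F hm b hℓk B hB hcompat
  haveI : Nontrivial U := by
    rw [← Module.finrank_pos_iff (R := k)]
    refine Nat.pos_of_ne_zero fun h => ?_
    rw [h, zero_mul] at hsq
    exact Fintype.card_ne_zero hsq.symm
  obtain ⟨ζ, f, hζ, hf, hbound, hev, -⟩ := exists_mult (restrictForm F U hU) hm hone b bq hbq hℓ hℓk hord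
    (B.restrict hUB) (LinearMap.ext fun v => Subtype.ext (by rw [restrict_pow_coe, hB]; rfl))
    (fun x => LinearMap.ext fun v => Subtype.ext (LinearMap.congr_fun (hcompat x) (v : W)))
  have hf0 : f ⟨0, by omega⟩ = 0 := by
    by_contra h
    obtain ⟨w, hw0, hw⟩ := hev _ h
    rw [pow_zero, inv_one, one_smul] at hw
    have hfix : ∀ i, (B ^ i) (w : W) = (w : W) := fun i => by
      induction i with
      | zero => rfl
      | succ i ih => rw [pow_succ', Module.End.mul_apply, ih]; exact congrArg Subtype.val hw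
    have h2 := hsum (w : W)
    rw [Finset.sum_congr rfl fun i _ => hfix i, Finset.sum_const, Finset.card_range, ← Nat.cast_smul_eq_nsmul k] at h2
    exact hw0 (Subtype.ext ((smul_eq_zero.1 h2).resolve_left hℓk))
  refine ⟨finrank k U, hsq, le_trans (Nat.mul_le_mul_left _ ?_) hbound,
    le_trans ?_ (Nat.mul_le_mul_left _ hbound)⟩
  · rw [← hf]
    exact Finset.sum_le_sum fun j _ => Nat.le_self_pow (by norm_num) _
  · rw [← mul_assoc (ℓ - 1), mul_comm (ℓ - 1) ℓ, mul_assoc, ← hf, ← sq]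
    refine Nat.mul_le_mul_left _ ?_
    rw [← Finset.add_sum_erase _ _ (Finset.mem_univ (⟨0, by omega⟩ : Fin ℓ)), hf0, zero_add,
      ← Finset.add_sum_erase _ (fun j => f j ^ 2) (Finset.mem_univ (⟨0, by omega⟩ : Fin ℓ)), hf0,
      zero_pow (by norm_num), zero_add]
    refine sq_sum_le_card_mul_sum_sq.trans (le_of_eq ?_)
    rw [Finset.card_erase_of_mem (Finset.mem_univ _), Finset.card_univ, Fintype.card_fin, Nat.cast_id]

/-- A power of an odd number next to a power of two. -/
theorem exponent_eq_one {r e M : ℕ} (hr : Odd r) (hr1 : 1 < r) (hM : 2 ≤ M) (h : r ^ e + 1 = 2 ^ M) : e = 1 := by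
  rcases Nat.even_or_odd e with ⟨s, rfl⟩ | ⟨s, rfl⟩
  · exfalso
    obtain ⟨t, ht⟩ := hr.pow (n := s)
    obtain ⟨M', rfl⟩ : ∃ M', M = M' + 2 := ⟨M - 2, by omega⟩
    rw [pow_add, ht, pow_add] at h
    have h1 : (2 * t + 1) * (2 * t + 1) = 4 * (t * t + t) + 1 := by ring
    omega
  · rcases s.eq_zero_or_pos with rfl | hs
    · rfl
    exfalso
    have hdvd : r + 1 ∣ 2 ^ M := by
      have h1 := (odd_two_mul_add_one s).nat_add_dvd_pow_add_pow r 1
      rwa [one_pow, h] at h1
    obtain ⟨A, hA, hrA⟩ := (Nat.dvd_prime_pow Nat.prime_two).1 hdvd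
    set E := 2 * s + 1 with hE
    -- the cofactor is odd
    have key : ∀ t : ℕ, ∃ c : ℕ, Odd c ∧ r ^ (2 * t + 1) + 1 = (r + 1) * c := by
      intro t
      induction t with
      | zero => exact ⟨1, odd_one, by ring⟩
      | succ t ih =>
        obtain ⟨c, hc, hc'⟩ := ih
        obtain ⟨r', hr'⟩ : ∃ r', r = r' + 1 := ⟨r - 1, by omega⟩
        have hev : Even r' := by
          rw [hr', Nat.odd_add_one, Nat.not_odd_iff_even] at hr
          exact hr
        have hle : r' ≤ r * r * c := le_trans (by omega) (Nat.le_mul_of_pos_right (r * r) hc.pos |>.trans' (Nat.le_mul_self r))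
        refine ⟨r * r * c - r', Nat.Odd.sub_even hle ((hr.mul hr).mul hc) hev, ?_⟩
        rw [Nat.mul_sub, show 2 * (t + 1) + 1 = 2 * t + 1 + 2 from rfl, pow_add]
        have h2 : (r + 1) * (r * r * c) = r ^ (2 * t + 1) * r ^ 2 + r * r := by
          rw [mul_comm (r * r) c, ← mul_assoc, ← hc']; ring
        have h3 : (r + 1) * r' + 1 = r * r := by rw [hr']; ring
        omega
    obtain ⟨c, hc, hc'⟩ := key s
    rw [h] at hc'
    have hc1 : c = 1 := by
      obtain ⟨i, -, hi⟩ := (Nat.dvd_prime_pow Nat.prime_two).1 (Dvd.intro_left _ hc'.symm : c ∣ 2 ^ M)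
      rcases i.eq_zero_or_pos with rfl | hi0
      · simpa using hi
      · exact absurd hc (Nat.not_odd_iff_even.2 (hi ▸ Nat.even_pow.2 ⟨even_two, hi0.ne'⟩))
    rw [hc1, mul_one] at hc'
    have h4 : r ^ E + 1 = r + 1 := by rw [hE, h, hc']
    have h5 : r < r ^ E := lt_self_pow₀ hr1 (by omega)
    omega

end CfsgLib.GrossFit
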