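import Cfsg.Agent.PQFpf.Form
import Cfsg.Agent.PQFpf.Weights
import Mathlib

/-!
Multiplicities of the eigenvalues of an operator compatible with a representation with non-degenerate commutator
form, after passing to a piece on which only scalars commute with everything.
-/

set_option autoImplicit false
set_option linter.style.haveILetI false
set_option linter.unusedSectionVars false

namespace CfsgLib.GrossFit

open Module CfsgLib.PQFpf

variable {k : Type*} [Field k] {W : Type*} [AddCommGroup W] [Module k W]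
variable {S : Type*} [Group S] {π : S →* Module.End k W} {R : Subgroup S}

/-- The representation on an invariant subspace. -/
def restrictRep (U : Submodule k W) (hU : ∀ x, ∀ w ∈ U, π x w ∈ U) : S →* Module.End k U where
  toFun x := (π x).restrict (hU x)
  map_one' := LinearMap.ext fun v => Subtype.ext (by
    show π 1 (v : W) = v
    rw [map_one]; rfl)
  map_mul' x y := LinearMap.ext fun v => Subtype.ext (by
    show π (x * y) (v : W) = π x (π y v)
    rw [map_mul]; rfl)

/-- The form on an invariant subspace. -/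
def restrictForm (F : FormRep π R) (U : Submodule k W) (hU : ∀ x, ∀ w ∈ U, π x w ∈ U) :
    FormRep (restrictRep U hU) R where
  χ := F.χ
  scalar u hu := by
    obtain ⟨c, hc⟩ := F.scalar u hu
    exact ⟨c, LinearMap.ext fun v => Subtype.ext (LinearMap.congr_fun hc (v : W))⟩
  rel x y := LinearMap.ext fun v => Subtype.ext (LinearMap.congr_fun (F.rel x y) (v : W))
  left_rad := F.left_rad
  right_rad := F.right_rad
  rad_right := F.rad_right

theorem restrict_pow_coe {U : Submodule k W} {B : Module.End k W} (hB : ∀ w ∈ U, B w ∈ U) (i : ℕ) :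
    ∀ v : U, (((B.restrict hB) ^ i) v : W) = (B ^ i) (v : W) := by
  induction i with
  | zero => intro v; rfl
  | succ i ih =>
    intro v
    rw [pow_succ', pow_succ', Module.End.mul_apply, Module.End.mul_apply, ← ih]
    rfl

/-- Only scalars commute with a form representation that has no proper invariant piece stable under a compatible
operator of finite order. -/
theorem finrank_comm_eq_one [IsAlgClosed k] [Finite S] [FiniteDimensional k W] [Nontrivial W]
    (F : FormRep π R) [R.Normal] [Fintype (S ⧸ R)] (hm : (Fintype.card (S ⧸ R) : k) ≠ 0)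
    (b : MulAut S) {ℓ : ℕ} (hℓk : (ℓ : k) ≠ 0)
    (B : Module.End k W) (hB : B ^ ℓ = 1) (hcompat : ∀ x, B * π x = π (b x) * B)
    (hirr : ∀ U : Submodule k W, (∀ x, ∀ w ∈ U, π x w ∈ U) → (∀ w ∈ U, B w ∈ U) → U = ⊥ ∨ U = ⊤) :
    finrank k F.comm = 1 := by
  classical
  have hℓ0 : ℓ ≠ 0 := fun h => hℓk (by rw [h, Nat.cast_zero])
  obtain ⟨l, rfl⟩ : ∃ l, ℓ = l + 1 := ⟨ℓ - 1, by omega⟩
  have hBi : B * B ^ l = 1 := by rw [← pow_succ', hB]
  have hiB : B ^ l * B = 1 := by rw [← pow_succ, hB]
  -- conjugation by the operator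
  have hmem : ∀ X ∈ F.comm, B * X * B ^ l ∈ F.comm := fun X hX x => by
    obtain ⟨y, rfl⟩ := b.surjective x
    have h1 : π (b y) = B * π y * B ^ l := by rw [hcompat, mul_assoc, hBi, mul_one]
    rw [h1]
    calc B * π y * B ^ l * (B * X * B ^ l) = B * π y * (B ^ l * B) * X * B ^ l := by simp only [mul_assoc]
      _ = B * (π y * X) * B ^ l := by simp only [hiB, mul_one, mul_assoc]
      _ = B * (X * π y) * B ^ l := by rw [hX y]
      _ = B * X * (B ^ l * B) * π y * B ^ l := by simp only [hiB, mul_one, mul_assoc]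
      _ = _ := by simp only [mul_assoc]
  let θ : Module.End k F.comm :=
    { toFun := fun X => ⟨B * X * B ^ l, hmem X X.2⟩
      map_add' := fun X Y => Subtype.ext (by simp [mul_add, add_mul])
      map_smul' := fun c X => Subtype.ext (by simp) }
  have hθpow : ∀ (i : ℕ) (X : F.comm), ((θ ^ i) X : Module.End k W) = B ^ i * X * (B ^ l) ^ i := fun i => by
    induction i with
    | zero => intro X; simp
    | succ i ih =>
      intro X
      rw [pow_succ', Module.End.mul_apply]
      show B * ((θ ^ i) X : Module.End k W) * B ^ l = _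
      rw [ih, pow_succ' B, pow_succ (B ^ l)]
      simp only [mul_assoc]
  have hθℓ : θ ^ (l + 1) = 1 := LinearMap.ext fun X => Subtype.ext (by
    rw [hθpow, hB, ← pow_mul, mul_comm l, pow_mul, hB, one_pow, one_mul, mul_one]
    rfl)
  -- an eigenvector of the conjugation has trivial kernel
  have hker : ∀ (X : F.comm) (c : k), c ≠ 0 → θ X = c • X → X ≠ 0 → Function.Bijective (X : Module.End k W) := by
    intro X c hc0 hX hX0
    have hXB : B * (X : Module.End k W) = c • ((X : Module.End k W) * B) := by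
      have h := congrArg Subtype.val hX
      simp only [θ, LinearMap.coe_mk, AddHom.coe_mk, SetLike.val_smul] at h
      rw [← smul_mul_assoc, ← h, mul_assoc, hiB, mul_one]
    have hkerbot : LinearMap.ker (X : Module.End k W) = ⊥ := by
      refine (hirr _ (fun x w hw => ?_) (fun w hw => ?_)).resolve_right fun htop => hX0 (Subtype.ext ?_)
      · rw [LinearMap.mem_ker] at hw ⊢
        rw [← Module.End.mul_apply, ← X.2 x, Module.End.mul_apply, hw, map_zero]
      · rw [LinearMap.mem_ker] at hw ⊢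
        have h := LinearMap.congr_fun hXB w
        rw [Module.End.mul_apply, LinearMap.smul_apply, Module.End.mul_apply, hw, map_zero] at h
        exact (smul_eq_zero.1 h.symm).resolve_left hc0
      · exact LinearMap.ker_eq_top.1 htop
    have hinj : Function.Injective (X : Module.End k W) := LinearMap.ker_eq_bot.1 hkerbot
    exact ⟨hinj, LinearMap.injective_iff_surjective.1 hinj⟩
  -- eigenvectors are unique up to scalars
  have huniq : ∀ (X Y : F.comm) (c : k), c ≠ 0 → θ X = c • X → θ Y = c • Y → X ≠ 0 → ∃ a : k, Y = a • X := by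
    intro X Y c hc0 hX hY hX0
    obtain ⟨a, ha⟩ : ∃ a : k, LinearMap.ker ((Y : Module.End k W) - a • (X : Module.End k W)) ≠ ⊥ := by
      let e := LinearEquiv.ofBijective (X : Module.End k W) (hker X c hc0 hX hX0)
      obtain ⟨a, ha⟩ := Module.End.exists_eigenvalue (e.symm.toLinearMap * (Y : Module.End k W))
      obtain ⟨w, hw⟩ := ha.exists_hasEigenvector
      refine ⟨a, fun h => hw.2 ((Submodule.mem_bot k).1 (h ▸ LinearMap.mem_ker.2 ?_))⟩
      have h1 : e.symm ((Y : Module.End k W) w) = a • w := hw.apply_eq_smul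
      have h2 := congrArg e h1
      rw [LinearEquiv.apply_symm_apply, map_smul] at h2
      rw [LinearMap.sub_apply, LinearMap.smul_apply, h2]
      exact sub_self _
    refine ⟨a, by_contra fun hne => ha (LinearMap.ker_eq_bot.2 (hker (Y - a • X) c hc0 ?_ ?_).1)⟩
    · rw [map_sub, map_smul, hX, hY, smul_sub, smul_comm]
    · exact fun h => hne (sub_eq_zero.1 h)
  -- commutativity
  let D := Multiplicative (ZMod (l + 1))
  let ρ : Multiplicative (ZMod (l + 1)) →* Module.End k F.comm :=
    { toFun := fun d => θ ^ (Multiplicative.toAdd d).val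
      map_one' := by simp
      map_mul' := fun a b => by rw [← pow_add, toAdd_mul, ZMod.val_add, ← pow_eq_pow_mod _ hθℓ] }
  haveI : Finite D := inferInstanceAs (Finite (ZMod (l + 1)))
  have hDk : (Nat.card D : k) ≠ 0 := by
    rw [show Nat.card D = l + 1 from Nat.card_zmod (l + 1)]; exact hℓk
  have hρθ : ρ (Multiplicative.ofAdd 1) = θ := by
    show θ ^ (Multiplicative.toAdd (Multiplicative.ofAdd (1 : ZMod (l + 1)))).val = θ
    rw [toAdd_ofAdd]
    rw [ZMod.val_one_eq_one_mod, ← pow_eq_pow_mod _ hθℓ, pow_one]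
  have hev : ∀ (χ : D →* kˣ) (X : F.comm), IsWeight ρ χ X →
      θ X = ((χ (Multiplicative.ofAdd 1) : kˣ) : k) • X := fun χ X h => hρθ ▸ h _
  have hmul : ∀ (X Y : F.comm), (X : Module.End k W) * Y ∈ F.comm := fun X Y x => by
    rw [← mul_assoc, X.2 x, mul_assoc, Y.2 x, mul_assoc]
  have hθmul : ∀ (X Y : F.comm), θ ⟨(X : Module.End k W) * Y, hmul X Y⟩ =
      ⟨(θ X : Module.End k W) * (θ Y : Module.End k W), hmul _ _⟩ := fun X Y => Subtype.ext (by
    show B * ((X : Module.End k W) * Y) * B ^ l = B * X * B ^ l * (B * Y * B ^ l)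
    calc _ = B * X * 1 * Y * B ^ l := by simp only [mul_assoc, mul_one]
      _ = B * X * (B ^ l * B) * Y * B ^ l := by rw [hiB]
      _ = _ := by simp only [mul_assoc])
  have hpow : ∀ (X : F.comm) (i : ℕ), (X : Module.End k W) ^ i ∈ F.comm := fun X i x =>
    ((show Commute (π x) (X : Module.End k W) from X.2 x).pow_right i).eq
  have hθpw : ∀ (X : F.comm) (c : k), θ X = c • X → ∀ i : ℕ,
      θ ⟨(X : Module.End k W) ^ i, hpow X i⟩ = c ^ i • ⟨(X : Module.End k W) ^ i, hpow X i⟩ := by
    intro X c hX i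
    refine Subtype.ext ?_
    show B * (X : Module.End k W) ^ i * B ^ l = c ^ i • (X : Module.End k W) ^ i
    have h1 : B * (X : Module.End k W) * B ^ l = c • (X : Module.End k W) := congrArg Subtype.val hX
    induction i with
    | zero => rw [pow_zero, pow_zero, mul_one, hBi, one_smul]
    | succ i ih =>
      calc B * (X : Module.End k W) ^ (i + 1) * B ^ l
          = B * (X : Module.End k W) ^ i * 1 * (X * B ^ l) := by rw [pow_succ, mul_one]; simp only [mul_assoc]
        _ = B * (X : Module.End k W) ^ i * (B ^ l * B) * (X * B ^ l) := by rw [hiB]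
        _ = (B * (X : Module.End k W) ^ i * B ^ l) * (B * X * B ^ l) := by simp only [mul_assoc]
        _ = _ := by rw [ih, h1, smul_mul_smul_comm, ← pow_succ, ← pow_succ]
  have hcomm2 : ∀ (χ ψ : D →* kˣ) (X Y : F.comm), IsWeight ρ χ X → IsWeight ρ ψ Y →
      (X : Module.End k W) * Y = Y * X := by
    intro χ ψ X Y hX hY
    rcases eq_or_ne X 0 with rfl | hX0
    · simp
    rcases eq_or_ne Y 0 with rfl | hY0
    · simp
    set g : D := Multiplicative.ofAdd 1
    set c₁ := χ g
    set c₂ := ψ g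
    have hfin : ∀ φ : D →* kˣ, IsOfFinOrder (φ g) := fun φ => φ.isOfFinOrder (isOfFinOrder_of_finite g)
    let Γ : Subgroup kˣ := Subgroup.closure {c₁, c₂}
    have hΓfin : ∀ c ∈ Γ, c ^ (l + 1) = 1 := fun c hc => by
      induction hc using Subgroup.closure_induction with
      | mem c hc =>
        have h1 : ∀ φ : D →* kˣ, φ g ^ (l + 1) = 1 := fun φ => by
          rw [← map_pow, show g ^ (l + 1) = 1 from
            (Nat.card_zmod (l + 1) ▸ pow_card_eq_one' (G := Multiplicative (ZMod (l + 1))) (x := g) :), map_one]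
        rcases hc with rfl | rfl
        · exact h1 χ
        · exact h1 ψ
      | one => exact one_pow _
      | mul a b _ _ ha hb => rw [mul_pow, ha, hb, one_mul]
      | inv a _ ha => rw [inv_pow, ha, inv_one]
    haveI : Finite Γ := by
      refine Finite.of_injective (fun c : Γ => (⟨(c : kˣ), by
        rw [mem_rootsOfUnity]; exact hΓfin c c.2⟩ : rootsOfUnity (l + 1) k)) ?_
      intro a b hab
      exact Subtype.ext (congrArg Subtype.val hab :)
    obtain ⟨c, hc⟩ := (isCyclic_iff_exists_zpowers_eq_top (α := Γ)).1 inferInstance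
    obtain ⟨u, v, huv⟩ := Subgroup.mem_closure_pair.1 c.2
    have hZpow : ∀ (χ : D →* kˣ) (X : F.comm), θ X = ((χ g : kˣ) : k) • X → X ≠ 0 → ∀ z : ℤ, ∃ Z : F.comm,
        θ Z = (((χ g) ^ z : kˣ) : k) • Z ∧ Function.Bijective (Z : Module.End k W) := by
      intro χ X hX hX0 z
      obtain ⟨i, hi⟩ := (Submonoid.mem_powers_iff _ _).1
        ((hfin χ).mem_powers_iff_mem_zpowers.2 (zpow_mem (Subgroup.mem_zpowers (χ g)) z))
      refine ⟨⟨_, hpow X i⟩, ?_, ?_⟩
      · rw [hθpw X _ hX, ← hi, Units.val_pow_eq_pow_val]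
      · rw [Module.End.coe_pow]
        exact (hker X _ (Units.ne_zero _) hX hX0).iterate i
    obtain ⟨P, hP, hPb⟩ := hZpow χ X (hev χ X hX) hX0 u
    obtain ⟨Q, hQ, hQb⟩ := hZpow ψ Y (hev ψ Y hY) hY0 v
    let Z : F.comm := ⟨(P : Module.End k W) * Q, hmul P Q⟩
    have hZb : Function.Bijective (Z : Module.End k W) := hPb.comp hQb
    have hZev : θ Z = ((c : kˣ) : k) • Z := by
      refine Subtype.ext ?_
      rw [show (θ Z : Module.End k W) = (θ P : Module.End k W) * (θ Q : Module.End k W) from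
        congrArg Subtype.val (hθmul P Q), congrArg Subtype.val hP, congrArg Subtype.val hQ, SetLike.val_smul,
        SetLike.val_smul, SetLike.val_smul, smul_mul_smul_comm, ← Units.val_mul, huv]
    have hrep : ∀ (χ : D →* kˣ) (X : F.comm), θ X = ((χ g : kˣ) : k) • X → χ g ∈ Γ →
        ∃ (a : k) (i : ℕ), (X : Module.End k W) = a • (Z : Module.End k W) ^ i := by
      intro χ X hX hΓ
      have hmem : (⟨χ g, hΓ⟩ : Γ) ∈ Subgroup.zpowers c := hc ▸ Subgroup.mem_top _
      obtain ⟨i, hi⟩ := (Submonoid.mem_powers_iff _ _).1 (mem_powers_iff_mem_zpowers.2 hmem)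
      have hne : (⟨_, hpow Z i⟩ : F.comm) ≠ 0 := fun h => by
        have h1 : Function.Bijective ((Z : Module.End k W) ^ i) := by
          rw [Module.End.coe_pow]; exact hZb.iterate i
        rw [show (Z : Module.End k W) ^ i = 0 from congrArg Subtype.val h] at h1
        obtain ⟨w, hw⟩ := exists_ne (0 : W)
        exact hw (h1.1 (by rfl))
      obtain ⟨a, ha⟩ := huniq ⟨_, hpow Z i⟩ X ((χ g : kˣ) : k) (Units.ne_zero _) (by
        rw [hθpw Z _ hZev i, ← Units.val_pow_eq_pow_val,
          show ((c : kˣ)) ^ i = χ g from congrArg Subtype.val hi]) hX hne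
      exact ⟨a, i, congrArg Subtype.val ha⟩
    obtain ⟨a, i, hai⟩ := hrep χ X (hev χ X hX) (Subgroup.subset_closure (Or.inl rfl))
    obtain ⟨a', i', hai'⟩ := hrep ψ Y (hev ψ Y hY) (Subgroup.subset_closure (Or.inr rfl))
    rw [hai, hai', smul_mul_smul_comm, smul_mul_smul_comm, mul_comm a a', ← pow_add, ← pow_add, add_comm]
  have hρc : ∀ a b : D, ρ (a * b) = ρ (b * a) := fun a b => by rw [mul_comm]
  have hab : ∀ X Y : F.comm, (X : Module.End k W) * Y = Y * X := by
    intro X
    let L : F.comm →ₗ[k] Module.End k W :=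
      (LinearMap.mulLeft k (X : Module.End k W) - LinearMap.mulRight k (X : Module.End k W)).comp F.comm.subtype
    have hL : L = 0 := ext_weights ρ hρc hDk L fun ψ Y hY => by
      let L' : F.comm →ₗ[k] Module.End k W :=
        (LinearMap.mulRight k (Y : Module.End k W) - LinearMap.mulLeft k (Y : Module.End k W)).comp F.comm.subtype
      have hL' : L' = 0 := ext_weights ρ hρc hDk L' fun χ X' hX' => by
        show (X' : Module.End k W) * Y - Y * X' = 0
        rw [sub_eq_zero]
        exact hcomm2 χ ψ X' Y hX' hY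
      exact LinearMap.congr_fun hL' X
    intro Y
    exact sub_eq_zero.1 (LinearMap.congr_fun hL Y)
  -- the commutant is central
  refine le_antisymm (finrank_le_one (⟨1, fun x => by rw [mul_one, one_mul]⟩ : F.comm) fun X => ?_)
    (Nat.one_le_iff_ne_zero.2 F.comm_ne_zero)
  have hall : ∀ T : Module.End k W, (X : Module.End k W) * T = T * X := fun T => by
    have h := F.sum_coeff T
    refine smul_right_injective _ hm ?_
    show (Fintype.card (S ⧸ R) : k) • _ = (Fintype.card (S ⧸ R) : k) • _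
    rw [← mul_smul_comm, ← smul_mul_assoc, ← h, Finset.mul_sum, Finset.sum_mul]
    refine Finset.sum_congr rfl fun y _ => ?_
    rw [← mul_assoc, ← X.2 y.out, mul_assoc, hab X ⟨_, F.coeff_mem y T⟩, ← mul_assoc]
  obtain ⟨c, hc⟩ := Module.End.exists_eigenvalue (X : Module.End k W)
  obtain ⟨w, hw⟩ := hc.exists_hasEigenvector
  refine ⟨c, Subtype.ext (LinearMap.ext fun v => ?_)⟩
  obtain ⟨φ, hφ⟩ := Module.Projective.exists_dual_ne_zero k hw.2
  let T : Module.End k W := ((φ w)⁻¹ • φ).smulRight v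
  have hT : T w = v := by
    show ((φ w)⁻¹ * φ w) • v = v
    rw [inv_mul_cancel₀ hφ, one_smul]
  have h := LinearMap.congr_fun (hall T) w
  rw [Module.End.mul_apply, Module.End.mul_apply, hw.apply_eq_smul, map_smul, hT] at h
  exact h.symm

/-- A piece, stable under the operator, on which only scalars commute. -/
theorem exists_piece [IsAlgClosed k] [Finite S] [FiniteDimensional k W] [Nontrivial W]
    (F : FormRep π R) [R.Normal] [Fintype (S ⧸ R)] (hm : (Fintype.card (S ⧸ R) : k) ≠ 0)
    (b : MulAut S) {ℓ : ℕ} (hℓk : (ℓ : k) ≠ 0)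
    (B : Module.End k W) (hB : B ^ ℓ = 1) (hcompat : ∀ x, B * π x = π (b x) * B) :
    ∃ (U : Submodule k W) (hU : ∀ x, ∀ w ∈ U, π x w ∈ U) (_ : ∀ w ∈ U, B w ∈ U),
      finrank k U * finrank k U = Fintype.card (S ⧸ R) ∧ finrank k (restrictForm F U hU).comm = 1 := by
  classical
  obtain ⟨U, hU⟩ : ∃ U : Submodule k W, MinimalFor
      (fun U : Submodule k W => U ≠ ⊥ ∧ (∀ x, ∀ w ∈ U, π x w ∈ U) ∧ ∀ w ∈ U, B w ∈ U)
      (fun U => finrank k U) U :=
    exists_minimalFor_of_wellFoundedLT _ _ ⟨⊤, top_ne_bot, fun _ _ _ => Submodule.mem_top, fun _ _ => Submodule.mem_top⟩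
  obtain ⟨hU0, hUπ, hUB⟩ := hU.1
  haveI : Nontrivial U := Submodule.nontrivial_iff_ne_bot.2 hU0
  have h1 : finrank k (restrictForm F U hUπ).comm = 1 := by
    refine finrank_comm_eq_one (restrictForm F U hUπ) hm b hℓk (B.restrict hUB)
      (LinearMap.ext fun v => Subtype.ext (by rw [restrict_pow_coe, hB]; rfl))
      (fun x => LinearMap.ext fun v => Subtype.ext (LinearMap.congr_fun (hcompat x) (v : W))) fun U' hπ' hB' => ?_
    by_cases h0 : U' = ⊥
    · exact Or.inl h0
    refine Or.inr (Submodule.map_injective_of_injective U.injective_subtype ?_)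
    rw [Submodule.map_subtype_top]
    have hle : U'.map U.subtype ≤ U := Submodule.map_subtype_le _ _
    refine Submodule.eq_of_le_of_finrank_le hle (hU.le_of_le ⟨?_, ?_, ?_⟩ (Submodule.finrank_mono hle))
    · exact fun h => h0 (Submodule.map_injective_of_injective U.injective_subtype (h.trans (Submodule.map_bot _).symm))
    · rintro x _ ⟨w, hw, rfl⟩
      exact ⟨_, hπ' x w hw, rfl⟩
    · rintro _ ⟨w, hw, rfl⟩
      exact ⟨_, hB' w hw, rfl⟩
  refine ⟨U, hUπ, hUB, ?_, h1⟩
  have h := (restrictForm F U hUπ).finrank_sq hm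
  rw [h1, mul_one] at h
  exact h

/-- The multiplicities of the eigenvalues are bounded by the orbits on the classes modulo the radical. -/
theorem exists_mult [IsAlgClosed k] [Finite S] [FiniteDimensional k W] [Nontrivial W]
    (F : FormRep π R) [R.Normal] [Fintype (S ⧸ R)] (hm : (Fintype.card (S ⧸ R) : k) ≠ 0)
    (hone : finrank k F.comm = 1)
    (b : MulAut S) (bq : Equiv.Perm (S ⧸ R)) (hbq : ∀ x : S, bq (x : S ⧸ R) = ((b x : S) : S ⧸ R))
    {ℓ : ℕ} (hℓ : 1 < ℓ) (hℓk : (ℓ : k) ≠ 0) (hord : orderOf bq = ℓ)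
    (B : Module.End k W) (hB : B ^ ℓ = 1) (hcompat : ∀ x, B * π x = π (b x) * B) :
    ∃ (ζ : k) (f : Fin ℓ → ℕ), IsPrimitiveRoot ζ ℓ ∧ ∑ j, f j = finrank k W ∧
      ℓ * ∑ j, f j ^ 2 ≤ ∑ i ∈ Finset.range ℓ, Nat.card {y : S ⧸ R // (bq ^ i) y = y} ∧
      (∀ j : Fin ℓ, f j ≠ 0 → ∃ w : W, w ≠ 0 ∧ B w = (ζ ^ (j : ℕ))⁻¹ • w) ∧
      ∀ (J : Finset (Fin ℓ)) (K : Submodule k W),
        (∀ j ∈ J, ∀ w : W, B w = (ζ ^ (j : ℕ))⁻¹ • w → w ∈ K) → ∑ j ∈ J, f j ≤ finrank k K := by
  classical
  let H := Subgroup.zpowers bq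
  haveI : Fintype H := Fintype.ofFinite _
  let Y := Quotient (MulAction.orbitRel H (S ⧸ R))
  haveI : Fintype Y := Fintype.ofFinite _
  have hcount : ℓ * Fintype.card Y = ∑ i ∈ Finset.range ℓ, Nat.card {y : S ⧸ R // (bq ^ i) y = y} := by
    have hH : Fintype.card H = ℓ := by rw [← Nat.card_eq_fintype_card, Nat.card_zpowers, hord]
    have hcong := MulAction.sum_card_fixedBy_eq_card_orbits_mul_card_group H (S ⧸ R)
    rw [hH, mul_comm] at hcong
    rw [← hcong]
    symm
    refine Finset.sum_bij (fun i _ => (⟨bq ^ i, pow_mem (Subgroup.mem_zpowers bq) i⟩ : H))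
      (fun _ _ => Finset.mem_univ _) ?_ ?_ ?_
    · intro i hi j hj h
      rw [Finset.mem_range, ← hord] at hi hj
      exact pow_injOn_Iio_orderOf hi hj (congrArg Subtype.val h)
    · intro g _
      obtain ⟨i, hi⟩ := (Submonoid.mem_powers_iff _ _).1 (mem_powers_iff_mem_zpowers.2 g.2)
      refine ⟨i % ℓ, Finset.mem_range.2 (Nat.mod_lt _ (by omega)), Subtype.ext ?_⟩
      show bq ^ (i % ℓ) = g
      rw [← hi, ← hord, pow_mod_orderOf]
    · intro i _
      rw [← Nat.card_eq_fintype_card]
      rfl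
  -- the centraliser of `B`
  let Z : Submodule k (Module.End k W) :=
    { carrier := {T | B * T = T * B}
      add_mem' := fun {T U} hT hU => by simp only [Set.mem_ofPred_eq] at hT hU ⊢; rw [mul_add, add_mul, hT, hU]
      zero_mem' := by simp
      smul_mem' := fun c T hT => by simp only [Set.mem_ofPred_eq] at hT ⊢; rw [mul_smul_comm, smul_mul_assoc, hT] }
  have hstep : ∀ T ∈ Z, ∀ y : S ⧸ R, F.coeff y T = 0 → F.coeff (bq y) T = 0 := by
    intro T hT y hy
    have hBi : B * B ^ (ℓ - 1) = 1 := by rw [← pow_succ', Nat.sub_add_cancel hℓ.le, hB]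
    have hu : (b y.out)⁻¹ * (bq y).out ∈ R := by
      rw [← QuotientGroup.eq, QuotientGroup.out_eq', ← hbq, QuotientGroup.out_eq']
    set u := (b y.out)⁻¹ * (bq y).out with hu'
    obtain ⟨c, hc⟩ := F.scalar u⁻¹ (R.inv_mem hu)
    have h : B * F.coeff y T = F.avg (π (b y.out)⁻¹ * T) * B := by
      simp only [FormRep.coeff, LinearMap.coe_mk, AddHom.coe_mk, FormRep.avg, Finset.mul_sum, Finset.sum_mul]
      refine Fintype.sum_equiv bq _ _ fun z => ?_
      have hz : (b z.out)⁻¹ * (bq z).out ∈ R := by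
        rw [← QuotientGroup.eq, QuotientGroup.out_eq', ← hbq, QuotientGroup.out_eq']
      rw [← F.conj_congr hz]
      have hTB : B * T = T * B := hT
      rw [show B * (π z.out * (π y.out⁻¹ * T) * π z.out⁻¹) = B * π z.out * π y.out⁻¹ * T * π z.out⁻¹ by
        simp only [mul_assoc], hcompat, mul_assoc (π (b z.out)) B, hcompat, map_inv b,
        show π (b z.out) * (π (b y.out)⁻¹ * B) * T * π z.out⁻¹ =
          π (b z.out) * π (b y.out)⁻¹ * (B * T) * π z.out⁻¹ by simp only [mul_assoc], hTB]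
      simp only [mul_assoc]
      rw [hcompat, map_inv b]
    rw [hy, mul_zero] at h
    have h2 := congrArg (· * B ^ (ℓ - 1)) h
    simp only [zero_mul, mul_assoc, hBi, mul_one] at h2
    show F.avg (π (bq y).out⁻¹ * T) = 0
    rw [show (bq y).out⁻¹ = u⁻¹ * (b y.out)⁻¹ by rw [hu']; group, map_mul, hc, smul_mul_assoc, one_mul,
      smul_mul_assoc]
    simp only [FormRep.avg, mul_smul_comm, smul_mul_assoc, ← Finset.smul_sum]
    rw [show (∑ z : S ⧸ R, π z.out * (π (b y.out)⁻¹ * T) * π z.out⁻¹) = 0 by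
      simpa only [FormRep.avg] using h2.symm, smul_zero]
  have hZ : finrank k Z ≤ Fintype.card Y * finrank k F.comm := by
    let Φ : Z →ₗ[k] (Y → F.comm) := LinearMap.pi fun y =>
      ((F.coeff (y : Y).out).comp Z.subtype).codRestrict F.comm fun T => F.coeff_mem _ _
    have hΦ : Function.Injective Φ := (injective_iff_map_eq_zero Φ).2 fun T hT => by
      have hall : ∀ y : S ⧸ R, F.coeff y (T : Module.End k W) = 0 := by
        intro y
        have h0 : F.coeff (Quotient.mk (MulAction.orbitRel H (S ⧸ R)) y : Y).out (T : Module.End k W) = 0 :=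
          congrArg Subtype.val (congrFun hT _)
        obtain ⟨g, hg⟩ := (MulAction.orbitRel_apply.1 (Quotient.mk_out (s := MulAction.orbitRel H (S ⧸ R)) y))
        have h1 : ∀ n : ℕ, F.coeff ((bq ^ n) (Quotient.mk (MulAction.orbitRel H (S ⧸ R)) y : Y).out)
            (T : Module.End k W) = 0 := fun n => by
          induction n with
          | zero => exact h0
          | succ n ih => rw [pow_succ', Equiv.Perm.mul_apply]; exact hstep _ T.2 _ ih
        obtain ⟨n, hn⟩ := (Submonoid.mem_powers_iff _ _).1 (mem_powers_iff_mem_zpowers.2 (H.inv_mem g.2))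
        have h2 := h1 n
        rw [← hg, hn] at h2
        simpa [Subgroup.smul_def, Equiv.Perm.smul_def] using h2
      have h := F.sum_coeff (T : Module.End k W)
      rw [Finset.sum_eq_zero fun y _ => by rw [hall y, mul_zero]] at h
      exact Subtype.ext ((smul_eq_zero.1 h.symm).resolve_left hm)
    refine (LinearMap.finrank_le_finrank_of_injective hΦ).trans_eq ?_
    rw [Module.finrank_pi_fintype k (M := fun _ : Y => F.comm), Finset.sum_const, Finset.card_univ, smul_eq_mul]
  -- eigenspaces of `B`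
  haveI : NeZero (ℓ : k) := ⟨hℓk⟩
  obtain ⟨ζ, hζ⟩ := HasEnoughRootsOfUnity.exists_primitiveRoot k ℓ
  have hζ0 : ζ ≠ 0 := hζ.ne_zero (by omega : ℓ ≠ 0)
  let P : Fin ℓ → Module.End k W := fun j => (ℓ : k)⁻¹ • ∑ i : Fin ℓ, (ζ ^ (j : ℕ)) ^ (i : ℕ) • B ^ (i : ℕ)
  have hBP : ∀ j, B * P j = ((ζ ^ (j : ℕ))⁻¹) • P j := by
    intro j
    have hzℓ : (ζ ^ (j : ℕ)) ^ ℓ = 1 := by rw [← pow_mul, mul_comm, pow_mul, hζ.pow_eq_one, one_pow]
    simp only [P, mul_smul_comm, Finset.mul_sum, Finset.smul_sum, smul_smul, ← pow_succ']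
    haveI : NeZero ℓ := ⟨(by omega : ℓ ≠ 0)⟩
    refine Fintype.sum_equiv (Equiv.addRight (1 : Fin ℓ)) _ _ fun i => ?_
    rw [Equiv.coe_addRight, Fin.val_add, Fin.val_one', ← pow_mod_mul_eq hℓ i hzℓ,
      ← pow_mod_mul_eq hℓ i hB]
    congr 1
    rw [pow_succ]
    field_simp
  have hPB : ∀ j, P j * B = ((ζ ^ (j : ℕ))⁻¹) • P j := fun j => by
    rw [← hBP j]
    show ((ℓ : k)⁻¹ • ∑ i : Fin ℓ, (ζ ^ (j : ℕ)) ^ (i : ℕ) • B ^ (i : ℕ)) * B = B * _
    have h : Commute (∑ i : Fin ℓ, (ζ ^ (j : ℕ)) ^ (i : ℕ) • B ^ (i : ℕ)) B :=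
      Commute.sum_left _ _ _ fun i _ => (Commute.pow_self B (i : ℕ)).smul_left ((ζ ^ (j : ℕ)) ^ (i : ℕ))
    exact (h.smul_left (ℓ : k)⁻¹).eq
  have hgeom : ∀ x : k, x ^ ℓ = 1 → x ≠ 1 → ∑ i : Fin ℓ, x ^ (i : ℕ) = 0 := fun x h1 h2 => by
    have h3 := geom_sum_mul x ℓ
    rw [h1, sub_self, mul_eq_zero] at h3
    rw [Fin.sum_univ_eq_sum_range fun i => x ^ i]
    exact h3.resolve_right (sub_ne_zero.2 h2)
  have hBpow : ∀ (n : ℕ) j, B ^ n * P j = ((ζ ^ (j : ℕ))⁻¹) ^ n • P j := fun n j => by
    induction n with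
    | zero => rw [pow_zero, pow_zero, one_mul, one_smul]
    | succ n ih => rw [pow_succ', mul_assoc, ih, mul_smul_comm, hBP, smul_smul, ← pow_succ]
  have hPP : ∀ i j, P i * P j = if i = j then P j else 0 := by
    intro i j
    conv_lhs => rw [show P i = (ℓ : k)⁻¹ • ∑ n : Fin ℓ, (ζ ^ (i : ℕ)) ^ (n : ℕ) • B ^ (n : ℕ) from rfl]
    simp only [smul_mul_assoc, Finset.sum_mul, hBpow, smul_smul, ← mul_pow, ← Finset.sum_smul]
    split_ifs with hij
    · subst hij
      simp only [mul_inv_cancel₀ (pow_ne_zero _ hζ0), one_pow, Finset.sum_const, Finset.card_univ, Fintype.card_fin,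
        nsmul_eq_mul, mul_one, inv_mul_cancel₀ hℓk, one_smul]
    · rw [hgeom, mul_zero, zero_smul]
      · rw [mul_pow, inv_pow, ← pow_mul, ← pow_mul, mul_comm (i : ℕ), mul_comm (j : ℕ), pow_mul, pow_mul,
          hζ.pow_eq_one, one_pow, one_pow, inv_one, mul_one]
      · intro h
        exact hij (Fin.ext (hζ.pow_inj i.2 j.2 ((mul_inv_eq_one₀ (pow_ne_zero _ hζ0)).1 h)))
  have hsumP : ∑ j, P j = 1 := by
    simp only [P, ← Finset.smul_sum]
    rw [Finset.sum_comm]
    simp only [← Finset.sum_smul, ← pow_mul]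
    haveI : NeZero ℓ := ⟨(by omega : ℓ ≠ 0)⟩
    rw [Finset.sum_eq_single (0 : Fin ℓ)]
    · simp [smul_smul, inv_mul_cancel₀ hℓk]
    · intro i _ hi
      rw [show ∑ j : Fin ℓ, ζ ^ ((j : ℕ) * (i : ℕ)) = ∑ j : Fin ℓ, (ζ ^ (i : ℕ)) ^ (j : ℕ) from
        Finset.sum_congr rfl fun j _ => by rw [← pow_mul, mul_comm], hgeom _ (by
          rw [← pow_mul, mul_comm, pow_mul, hζ.pow_eq_one, one_pow])
        (hζ.pow_ne_one_of_pos_of_lt (fun h => hi (Fin.ext h)) i.2), zero_smul]
    · simp
  let E : Fin ℓ → Submodule k W := fun j => LinearMap.range (P j)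
  have hPfix : ∀ j, ∀ w ∈ E j, ∀ i, P i w = if i = j then w else 0 := by
    rintro j _ ⟨w, rfl⟩ i
    rw [← Module.End.mul_apply, hPP]
    split_ifs <;> rfl
  let eqv : W ≃ₗ[k] ((j : Fin ℓ) → E j) :=
    { toFun := fun w j => ⟨P j w, w, rfl⟩
      map_add' := fun v w => funext fun j => Subtype.ext (map_add (P j) v w)
      map_smul' := fun c w => funext fun j => Subtype.ext (map_smul (P j) c w)
      invFun := fun f => ∑ j, (f j : W)
      left_inv := fun w => by
        show ∑ j, P j w = w
        rw [← LinearMap.sum_apply, hsumP]; rfl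
      right_inv := fun f => funext fun j => Subtype.ext (by
        show P j (∑ i, (f i : W)) = f j
        rw [map_sum, Finset.sum_eq_single j]
        · rw [hPfix j _ (f j).2, if_pos rfl]
        · intro i _ hi; rw [hPfix i _ (f i).2, if_neg (Ne.symm hi)]
        · simp) }
  haveI : NeZero ℓ := ⟨(by omega : ℓ ≠ 0)⟩
  have hlow : ∑ j, finrank k (E j) ^ 2 ≤ finrank k Z := by
    rw [show ∑ j, finrank k (E j) ^ 2 = finrank k ((j : Fin ℓ) → (E j →ₗ[k] E j)) by
      rw [Module.finrank_pi_fintype k]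
      exact Finset.sum_congr rfl fun j _ => by rw [Module.finrank_linearMap, sq]]
    let Ψ : ((j : Fin ℓ) → (E j →ₗ[k] E j)) →ₗ[k] Z :=
      { toFun := fun f => ⟨∑ j, (E j).subtype ∘ₗ f j ∘ₗ (P j).rangeRestrict, by
          show B * _ = _ * B
          rw [Finset.mul_sum, Finset.sum_mul]
          refine Finset.sum_congr rfl fun j _ => LinearMap.ext fun w => ?_
          obtain ⟨v, hv⟩ := (f j ((P j).rangeRestrict w)).2
          simp only [Module.End.mul_apply, LinearMap.coe_comp, Function.comp_apply, Submodule.coe_subtype]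
          rw [show (P j).rangeRestrict (B w) = ((ζ ^ (j : ℕ))⁻¹) • (P j).rangeRestrict w from
            Subtype.ext (LinearMap.congr_fun (hPB j) w), map_smul, Submodule.coe_smul, ← hv,
            ← Module.End.mul_apply, hBP, LinearMap.smul_apply]⟩
        map_add' := fun f g => Subtype.ext (by
          simp [LinearMap.add_comp, LinearMap.comp_add, Finset.sum_add_distrib])
        map_smul' := fun c f => Subtype.ext (by
          simp [LinearMap.smul_comp, LinearMap.comp_smul, Finset.smul_sum]) }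
    refine LinearMap.finrank_le_finrank_of_injective (f := Ψ) ((injective_iff_map_eq_zero Ψ).2 fun f hf => ?_)
    funext j
    refine LinearMap.ext fun v => Subtype.ext ?_
    have h := LinearMap.congr_fun (congrArg Subtype.val hf) (v : W)
    simp only [Ψ, LinearMap.coe_mk, AddHom.coe_mk, LinearMap.sum_apply, LinearMap.coe_comp, Function.comp_apply,
      Submodule.coe_subtype] at h
    rw [Finset.sum_eq_single j] at h
    · rw [show (P j).rangeRestrict (v : W) = v from Subtype.ext (by
        show P j v = v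
        rw [hPfix j _ v.2, if_pos rfl])] at h
      exact h
    · intro i _ hi
      rw [show (P i).rangeRestrict (v : W) = 0 from Subtype.ext (by
        show P i v = 0
        rw [hPfix j _ v.2, if_neg hi]), map_zero]
      rfl
    · simp
  refine ⟨ζ, fun j => finrank k (E j), hζ, ?_, ?_, ?_, ?_⟩
  · rw [eqv.finrank_eq, Module.finrank_pi_fintype k]
  · rw [← hcount]
    refine Nat.mul_le_mul_left _ (hlow.trans (hZ.trans ?_))
    rw [hone, mul_one]
  · intro j hj
    obtain ⟨w, hw⟩ := Submodule.exists_mem_ne_zero_of_ne_bot (p := E j)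
      fun h => hj (Submodule.finrank_eq_zero.2 h)
    obtain ⟨v, hv⟩ := hw.1
    exact ⟨w, hw.2, by rw [← hv, ← Module.End.mul_apply, hBP, LinearMap.smul_apply]⟩
  · intro J K hJ
    rw [← Finset.sum_coe_sort, show ∑ j : J, finrank k (E j) = finrank k ((j : J) → E j) from
      (Module.finrank_pi_fintype k).symm]
    have hEK : ∀ j ∈ J, E j ≤ K := by
      rintro j hj _ ⟨v, rfl⟩
      exact hJ j hj _ (by rw [← Module.End.mul_apply, hBP, LinearMap.smul_apply])
    let Θ : ((j : J) → E j) →ₗ[k] K :=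
      { toFun := fun g => ⟨∑ j : J, (g j : W), K.sum_mem fun j _ => hEK j j.2 (g j).2⟩
        map_add' := fun g g' => Subtype.ext (by simp [Finset.sum_add_distrib])
        map_smul' := fun c g => Subtype.ext (by simp [Finset.smul_sum]) }
    refine LinearMap.finrank_le_finrank_of_injective (f := Θ) ((injective_iff_map_eq_zero Θ).2 fun g hg => ?_)
    funext j
    refine Subtype.ext ?_
    have h := congrArg (P j) (congrArg Subtype.val hg)
    simp only [Θ, LinearMap.coe_mk, AddHom.coe_mk, map_sum, ZeroMemClass.coe_zero, map_zero] at h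
    rw [Finset.sum_eq_single j (fun i _ hi => by
        rw [hPfix i _ (g i).2, if_neg fun he => hi (Subtype.ext he.symm)])
      (fun hn => absurd (Finset.mem_univ _) hn), hPfix j _ (g j).2, if_pos rfl] at h
    exact h

end CfsgLib.GrossFit
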