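import Cfsg.Agent.GrossFit.Second
import Cfsg.Agent.S3Fpf.Group
import Mathlib

/-!
A group of odd prime power order represented without fixed vectors, acted on by a moved group: the first level of
the three level configuration, which cannot exist.
-/

set_option autoImplicit false
set_option linter.style.haveILetI false
set_option linter.unusedSectionVars false

namespace CfsgLib.GrossFit

open Module CfsgLib.PQFpf
open CfsgLib.ShultGross (pow_mem_of_invariant compat_pow exists_mul_mod orbit_sum Fixes sum_eq_sum_mul)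
open CfsgLib.S3Fpf (autLin autLin_injective autLin_apply)
open scoped commutatorElement TensorProduct

universe u

section Orbit

variable {k : Type*} [Field k] {W : Type*} [AddCommGroup W] [Module k W] {S : Type*} [Group S] [Finite S]
variable {π : S →* Module.End k W}

/-- The stabiliser of a weight, and the vanishing of its orbit sums. -/
theorem orbit_stab (hkS : (Nat.card S : k) ≠ 0) (D : Subgroup S) {τ : MulAut S} (hD : ∀ x ∈ D, τ x ∈ D)
    {T : Module.End k W} {a : ℕ} (hτ : τ ^ 2 ^ a = 1) (hcompat : ∀ x, T * π x = π (τ x) * T)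
    (hsum : ∀ w : W, ∑ i ∈ Finset.range (2 ^ a), (T ^ i) w = 0) (μ : D →* kˣ) {v : W}
    (hv : IsWeight (π.comp D.subtype) μ v) (hv0 : v ≠ 0) :
    ∃ j m : ℕ, j + (m + 1) = a ∧ (∀ u u' : D, (u' : S) = (τ ^ 2 ^ j) (u : S) → μ u' = μ u) ∧
      ∀ w : W, IsWeight (π.comp D.subtype) μ w → ∑ s ∈ Finset.range (2 ^ (m + 1)), ((T ^ 2 ^ j) ^ s) w = 0 := by
  classical
  have hfix_sub : ∀ a b, Fixes D τ μ a → Fixes D τ μ (a + b) → Fixes D τ μ b := by
    intro a b ha hab u u' hu
    have hmem := pow_mem_of_invariant hD a (u' : S) u'.2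
    rw [← ha u' ⟨_, hmem⟩ rfl]
    exact hab u ⟨_, hmem⟩ (by
      show (τ ^ a) (u' : S) = _
      rw [hu, pow_add, MulAut.mul_apply])
  have hN : Fixes D τ μ (2 ^ a) := fun u u' hu => by
    rw [hτ, MulAut.one_apply] at hu
    rw [Subtype.ext hu]
  have h0 : Fixes D τ μ 0 := fun u u' hu => by
    rw [pow_zero, MulAut.one_apply] at hu
    rw [Subtype.ext hu]
  have hex : ∃ d, 0 < d ∧ Fixes D τ μ d := ⟨_, Nat.two_pow_pos a, hN⟩
  set d := Nat.find hex
  obtain ⟨hdpos, hdfix⟩ : 0 < d ∧ Fixes D τ μ d := Nat.find_spec hex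
  have hmult : ∀ i, Fixes D τ μ (d * i) := fun i => by
    induction i with
    | zero => exact h0
    | succ i ih =>
      intro u u' hu
      have hmem := pow_mem_of_invariant hD d (u : S) u.2
      rw [Nat.mul_succ, pow_add, MulAut.mul_apply] at hu
      exact (ih ⟨_, hmem⟩ u' hu).trans (hdfix u ⟨_, hmem⟩ rfl)
  have hdvd : ∀ i, Fixes D τ μ i → d ∣ i := fun i hi => by
    rw [Nat.dvd_iff_mod_eq_zero]
    by_contra hr
    refine Nat.find_min hex (show i % d < Nat.find hex from Nat.mod_lt i hdpos) ⟨Nat.pos_of_ne_zero hr, ?_⟩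
    exact hfix_sub _ _ (hmult (i / d)) (by rwa [Nat.div_add_mod])
  obtain ⟨j, hj, hdj⟩ := (Nat.dvd_prime_pow Nat.prime_two).1 (hdvd _ hN)
  have horb : ∀ w : W, IsWeight (π.comp D.subtype) μ w → ∀ l, d * l = 2 ^ a →
      ∑ s ∈ Finset.range l, ((T ^ d) ^ s) w = 0 := by
    intro w hw l hl
    have h := orbit_sum D hD (Nat.two_pow_pos a) hτ hcompat hkS μ w hw (hsum w)
    rw [← hl, sum_eq_sum_mul _ hdpos l fun i _ hdi => if_neg fun hf => hdi (hdvd i hf)] at h
    rw [← h]
    exact Finset.sum_congr rfl fun s _ => by rw [if_pos (hmult s), pow_mul]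
  rcases hj.eq_or_lt with rfl | hja
  · have h := horb v hv 1 (by rw [mul_one, hdj])
    rw [Finset.sum_range_one, pow_zero, Module.End.one_apply] at h
    exact absurd h hv0
  refine ⟨j, a - j - 1, by omega, ?_, ?_⟩
  · rw [← hdj]; exact hdfix
  · intro w hw
    rw [← hdj]
    refine horb w hw _ ?_
    rw [hdj, ← pow_add]
    congr 1
    omega

end Orbit

/-- Every non-trivial element acts non-trivially in a representation with a compatible operator without fixed
vectors. -/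
def HasFpf (R : Type u) [Group R] (σ : MulAut R) (n : ℕ) : Prop :=
  ∀ z : R, z ≠ 1 → ∃ (k : Type) (_ : Field k) (_ : IsAlgClosed k) (W : Type u) (_ : AddCommGroup W) (_ : Module k W)
    (_ : FiniteDimensional k W) (π : R →* Module.End k W) (C : Module.End k W),
    π z ≠ 1 ∧ (Nat.card R : k) ≠ 0 ∧ (2 : k) ≠ 0 ∧ C ^ 2 ^ (n + 1) = 1 ∧ (∀ x, C * π x = π (σ x) * C) ∧
      ∀ w, ∑ i ∈ Finset.range (2 ^ (n + 1)), (C ^ i) w = 0

variable {R : Type u} [Group R] [Finite R] {σR : MulAut R} {n : ℕ}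

/-- Abelian invariant subgroups are centralised by the involutory power. -/
theorem abelian_fixed (hrep : HasFpf R σR n) (hσR : σR ^ 2 ^ (n + 1) = 1) (A : Subgroup R)
    (hA : ∀ a ∈ A, σR a ∈ A) (hcomm : ∀ a ∈ A, ∀ b ∈ A, a * b = b * a) {z : R} (hz : z ∈ A) :
    (σR ^ 2 ^ n) z = z := by
  classical
  by_contra hne
  have hw : z⁻¹ * (σR ^ 2 ^ n) z ∈ A := mul_mem (inv_mem hz) (pow_mem_of_invariant hA _ z hz)
  obtain ⟨k, _, _, W, _, _, _, π, C, hπ, hkR, -, hC, hcompat, hsum⟩ :=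
    hrep _ (fun h => hne (inv_mul_eq_one.1 h).symm)
  have hkA : (Nat.card A : k) ≠ 0 := fun h => hkR (by
    obtain ⟨c, hc⟩ := A.card_subgroup_dvd_card
    rw [hc, Nat.cast_mul, h, zero_mul])
  refine hπ (eq_one_of_weights (π.comp A.subtype)
    (fun a b => congrArg (π.comp A.subtype) (Subtype.ext (hcomm a a.2 b b.2))) hkA ⟨_, hw⟩ fun μ v hv hv0 => ?_)
  obtain ⟨j, m, hjm, hfix, -⟩ := orbit_stab hkR A hA hσR hcompat hsum μ hv hv0
  have hit : ∀ t : ℕ, ∀ u u' : A, (u' : R) = (σR ^ (2 ^ j * t)) (u : R) → μ u' = μ u := fun t => by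
    induction t with
    | zero => intro u u' hu; rw [Nat.mul_zero, pow_zero, MulAut.one_apply] at hu; rw [Subtype.ext hu]
    | succ t ih =>
      intro u u' hu
      rw [Nat.mul_succ, pow_add, MulAut.mul_apply] at hu
      exact (ih ⟨_, pow_mem_of_invariant hA _ (u : R) u.2⟩ u' hu).trans (hfix u ⟨_, _⟩ rfl)
  have h := hit (2 ^ m) ⟨z, hz⟩ ⟨_, pow_mem_of_invariant hA _ z hz⟩ (by
    show (σR ^ 2 ^ n) z = _
    rw [← pow_add, show j + m = n by omega])
  rw [show (⟨z⁻¹ * (σR ^ 2 ^ n) z, hw⟩ : A) = ⟨z, hz⟩⁻¹ * ⟨_, pow_mem_of_invariant hA _ z hz⟩ from rfl,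
    map_mul, map_inv, h, inv_mul_cancel]

/-- The restriction of an automorphism to an invariant subgroup. -/
noncomputable def resAut (K : Subgroup R) (τ : MulAut R) (h : ∀ x ∈ K, τ x ∈ K) : MulAut K :=
  MulEquiv.ofBijective ((τ.toMonoidHom.comp K.subtype).codRestrict K fun x => h x x.2)
    (Function.Injective.bijective_of_finite fun a b hab => Subtype.ext (τ.injective (congrArg Subtype.val hab :)))

theorem resAut_pow (K : Subgroup R) (τ : MulAut R) (h : ∀ x ∈ K, τ x ∈ K) (i : ℕ) (x : K) :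
    ((resAut K τ h ^ i) x : R) = (τ ^ i) (x : R) := by
  induction i with
  | zero => rfl
  | succ i ih => rw [pow_succ', MulAut.mul_apply, pow_succ' τ, MulAut.mul_apply, ← ih]; rfl

/-- The order of an abelian group of odd exponent splits over an involutory endomorphism. -/
theorem card_split {V : Type*} [CommGroup V] [Finite V] (f : V →* V) :
    Nat.card V = Nat.card {y : V // f y = y} * Nat.card (MonoidHom.id V / f).range := by
  rw [Subgroup.card_eq_card_quotient_mul_card_subgroup (MonoidHom.id V / f).ker,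
    Nat.card_congr (QuotientGroup.quotientKerEquivRange (MonoidHom.id V / f)).toEquiv, mul_comm]
  congr 1
  refine Nat.card_congr (Equiv.subtypeEquivRight fun y => ?_)
  rw [MonoidHom.mem_ker, MonoidHom.div_apply, MonoidHom.id_apply, div_eq_one, eq_comm]

/-- When the fixed point bound is attained, the fixed part is centralised. -/
theorem fixed_of_bound {V : Type*} [CommGroup V] [Finite V] (bq : Equiv.Perm V) (f : V →* V) {l : ℕ} (hl : 1 ≤ l)
    (hfix : ∀ i : ℕ, ¬ (l + 1) ∣ i → ∀ y : V, (bq ^ i) y = y → f y = y)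
    (hcard : Nat.card V = Nat.card {y : V // f y = y} * (l * l))
    (hbound : (l + 1) * Nat.card V ≤ l * ∑ i ∈ Finset.range (l + 1), Nat.card {y : V // (bq ^ i) y = y}) :
    ∀ y : V, f y = y → bq y = y := by
  classical
  haveI := Fintype.ofFinite V
  intro y hy
  by_contra hne
  rw [← Finset.add_sum_erase _ _ (Finset.mem_range.2 (Nat.succ_pos l))] at hbound
  have hle : ∀ i ∈ (Finset.range (l + 1)).erase 0,
      Nat.card {y : V // (bq ^ i) y = y} ≤ Nat.card {y : V // f y = y} := fun i hi => by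
    obtain ⟨hi0, hiℓ⟩ := Finset.mem_erase.1 hi
    rw [Finset.mem_range] at hiℓ
    exact Nat.card_le_card_of_injective
      (fun z => ⟨z.1, hfix i (fun h => hi0 (Nat.eq_zero_of_dvd_of_lt h hiℓ)) z.1 z.2⟩)
      fun a b h => Subtype.ext (congrArg Subtype.val h :)
  have h1mem : 1 ∈ (Finset.range (l + 1)).erase 0 :=
    Finset.mem_erase.2 ⟨one_ne_zero, Finset.mem_range.2 (by omega)⟩
  have hlt : ∑ i ∈ (Finset.range (l + 1)).erase 0, Nat.card {y : V // (bq ^ i) y = y} <
      ∑ _i ∈ (Finset.range (l + 1)).erase 0, Nat.card {y : V // f y = y} := by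
    refine Finset.sum_lt_sum hle ⟨1, h1mem, ?_⟩
    simp only [pow_one, Nat.card_eq_fintype_card]
    refine Fintype.card_lt_of_injective_of_notMem
      (fun z => ⟨z.1, hfix 1 (fun h => by have := Nat.le_of_dvd one_pos h; omega) z.1
        (by rw [pow_one]; exact z.2)⟩)
      (fun a b h => Subtype.ext (congrArg Subtype.val h :)) (b := ⟨y, hy⟩) ?_
    rintro ⟨z, hz⟩
    have e : z.1 = y := congrArg Subtype.val hz
    exact hne (e ▸ z.2)
  rw [Finset.sum_const, Finset.card_erase_of_mem (Finset.mem_range.2 (Nat.succ_pos l)), Finset.card_range,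
    smul_eq_mul] at hlt
  simp only [Nat.add_sub_cancel, Nat.succ_eq_add_one] at hlt
  rw [Nat.card_congr (Equiv.subtypeUnivEquiv fun y : V => show (bq ^ 0) y = y from rfl), hcard] at hbound
  nlinarith

/-- The second level, for a group acting on an abelian group of exponent `r`. -/
theorem module_level {S : Type u} [Group S] [Finite S] {σS : MulAut S} {q : ℕ} (D : Moved σS q n) {r : ℕ}
    (hr : r.Prime) (hr2 : r ≠ 2) (hqr : q ≠ r) {V : Type u} [CommGroup V] [Finite V] (hVr : ∀ y : V, y ^ r = 1)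
    {m d : ℕ} (hm1 : 1 ≤ m) (hd : d * 2 ^ (m + 1) = 2 ^ (n + 1)) (tA : MulAut V) (htA : tA ^ 2 ^ (m + 1) = 1)
    (hkill : ∀ y : V, tA (y * (tA ^ 2 ^ m) y) = y * (tA ^ 2 ^ m) y)
    (hI : Nat.card (MonoidHom.id V / (tA ^ 2 ^ m).toMonoidHom).range ≤ r ^ 2) (πV : S →* MulAut V)
    (hcompat : ∀ s, tA * πV s = πV ((σS ^ d) s) * tA) (hnt : ∃ s, πV ((σS ^ 2 ^ n) s) ≠ πV s) :
    q = 3 ∧ m = 1 := by
  classical
  haveI := Fact.mk hr
  haveI := Fact.mk D.hq
  letI : Module (ZMod r) (Additive V) :=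
    AddCommGroup.zmodModule (n := r) (G := Additive V) (fun v => by
      show Additive.ofMul (Additive.toMul v ^ r) = _
      rw [hVr]
      rfl)
  let k' := AlgebraicClosure (ZMod r)
  haveI : CharP k' r := charP_of_injective_algebraMap (algebraMap (ZMod r) k').injective r
  haveI : Module.Finite (ZMod r) (Additive V) := Module.Finite.of_finite
  have hM : Module (ZMod r) (Additive V) := inferInstance
  let lin : MulAut V →* Module.End (ZMod r) (Additive V) := autLin r
  let bcR : Module.End (ZMod r) (Additive V) →+* Module.End k' (k' ⊗[ZMod r] Additive V) :=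
    (Module.End.baseChangeHom (ZMod r) k' (Additive V)).toRingHom
  have hbc : Function.Injective bcR := LinearMap.baseChangeHom_injective (ZMod r) (Additive V) k'
  have hk'2 : (2 : k') ≠ 0 := fun h => hr2 ((Nat.prime_dvd_prime_iff_eq hr Nat.prime_two).1
    ((CharP.cast_eq_zero_iff k' r 2).1 (by exact_mod_cast h)))
  obtain ⟨a', ha'⟩ := D.hS.exists_card_eq
  have hk'S : (Nat.card S : k') ≠ 0 := fun h => by
    rw [CharP.cast_eq_zero_iff k' r, ha'] at h
    exact hqr ((Nat.prime_dvd_prime_iff_eq hr D.hq).1 (hr.dvd_of_dvd_pow h)).symm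
  have hidlin : (lin tA - 1) * (lin tA ^ 2 ^ m + 1) = 0 := LinearMap.ext fun v => by
    obtain ⟨v, rfl⟩ := Additive.ofMul.surjective v
    simp only [Module.End.mul_apply, LinearMap.add_apply, LinearMap.sub_apply, LinearMap.zero_apply,
      Module.End.one_apply, ← map_pow]
    show Additive.ofMul (tA ((tA ^ 2 ^ m) v * v) / ((tA ^ 2 ^ m) v * v)) = Additive.ofMul 1
    rw [mul_comm, hkill, div_self']
  let P : Module.End k' (k' ⊗[ZMod r] Additive V) := bcR (lin tA)
  have hdim : finrank k' (LinearMap.ker (P ^ 2 ^ m + 1)) ≤ 2 := by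
    let A : Module.End (ZMod r) (Additive V) := (1 : Module.End (ZMod r) (Additive V)) - lin tA ^ 2 ^ m
    have hA2 : finrank (ZMod r) (LinearMap.range A) ≤ 2 := by
      have e : ∀ v : V, A (Additive.ofMul v) = Additive.ofMul ((MonoidHom.id V / (tA ^ 2 ^ m).toMonoidHom) v) :=
        fun v => by
          simp only [A, LinearMap.sub_apply, Module.End.one_apply, ← map_pow]
          rfl
      have hcardA : Nat.card (LinearMap.range A) ≤ r ^ 2 := by
        refine le_trans (Nat.card_le_card_of_surjective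
          (fun z : (MonoidHom.id V / (tA ^ 2 ^ m).toMonoidHom).range => (⟨Additive.ofMul (z : V), ?_⟩ : LinearMap.range A))
          ?_) hI
        · obtain ⟨v, hv⟩ := z.2
          exact ⟨Additive.ofMul v, by rw [e, hv]⟩
        · rintro ⟨_, v, rfl⟩
          obtain ⟨y, rfl⟩ := Additive.ofMul.surjective v
          exact ⟨⟨_, y, rfl⟩, Subtype.ext (e y).symm⟩
      rw [Module.natCard_eq_pow_finrank (K := ZMod r) (V := LinearMap.range A), Nat.card_zmod] at hcardA
      exact (Nat.pow_le_pow_iff_right hr.one_lt).1 hcardA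
    let inc : k' ⊗[ZMod r] LinearMap.range A →ₗ[k'] k' ⊗[ZMod r] Additive V :=
      (LinearMap.range A).subtype.baseChange k'
    refine (Submodule.finrank_mono (t := LinearMap.range inc) fun w hw => ?_).trans
      (inc.finrank_range_le.trans (by rwa [Module.finrank_baseChange]))
    rw [LinearMap.mem_ker, LinearMap.add_apply, Module.End.one_apply, add_eq_zero_iff_eq_neg] at hw
    have hPpow : P ^ 2 ^ m = bcR (lin tA ^ 2 ^ m) := (map_pow bcR (lin tA) _).symm
    have hA : bcR A w = (2 : k') • w := by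
      rw [map_sub, map_one, ← hPpow, LinearMap.sub_apply, Module.End.one_apply, hw, sub_neg_eq_add, two_smul]
    refine ⟨(2 : k')⁻¹ • (A.rangeRestrict.baseChange k') w, ?_⟩
    rw [map_smul, ← LinearMap.comp_apply,
      show inc ∘ₗ A.rangeRestrict.baseChange k' = bcR A by
        rw [← LinearMap.baseChange_comp]; rfl, hA, inv_smul_smul₀ hk'2]
  obtain ⟨s, hs⟩ := hnt
  exact second_level D ((bcR.toMonoidHom.comp lin).comp πV) hk'S hk'2 hm1 hd P
    (by show bcR (lin tA) ^ 2 ^ (m + 1) = 1; rw [← map_pow, ← map_pow, htA, map_one, map_one])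
    (fun s => by
      show bcR (lin tA) * bcR (lin (πV s)) = bcR (lin (πV _)) * bcR (lin tA)
      rw [← map_mul, ← map_mul, ← map_mul, ← map_mul, hcompat])
    (by
      show (bcR (lin tA) - 1) * (bcR (lin tA) ^ 2 ^ m + 1) = 0
      have h := congrArg bcR hidlin
      rwa [map_zero, map_mul, map_sub, map_add, map_pow, map_one] at h)
    hdim ⟨s, fun h => hs (autLin_injective r (hbc h))⟩

set_option maxHeartbeats 800000 in
/-- The three level configuration does not exist. -/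
theorem first_level {S : Type u} [Group S] [Finite S] {σS : MulAut S} {q : ℕ} (D : Moved σS q n) {r : ℕ}
    (hr : r.Prime) (hr2 : r ≠ 2) (hqr : q ≠ r) (hRp : IsPGroup r R) (hσR : σR ^ 2 ^ (n + 1) = 1)
    (act : S →* MulAut R) (hact : ∀ s x, σR (act s x) = act (σS s) (σR x)) (hrep : HasFpf R σR n)
    (hgen : ∀ M : Subgroup R, (∀ s x, x⁻¹ * act s x ∈ M) → M = ⊤)
    (hcomm : ∀ x y : R, ⁅x, y⁆ ∈ Subgroup.center R) (hpow : ∀ x : R, x ^ r ∈ Subgroup.center R)
    (hfixZ : ∀ s, ∀ z ∈ Subgroup.center R, act s z = z) (hnab : ∃ x y : R, ⁅x, y⁆ ≠ 1) : False := by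
  classical
  haveI := Fact.mk hr
  haveI := Fact.mk D.hq
  obtain ⟨x₀, y₀, hxy⟩ := hnab
  obtain ⟨k, _, _, W, _, _, _, π, C, hπz, hkR, hk2, hC, hcompat, hsum⟩ := hrep _ hxy
  set Z := Subgroup.center R with hZdef
  have hZinv : ∀ z ∈ Z, σR z ∈ Z := fun z hz =>
    (Subgroup.characteristic_iff_le_comap.1 (inferInstance : (Subgroup.center R).Characteristic)) σR hz
  have hZc : ∀ z ∈ Z, ∀ g : R, g * z = z * g := fun z hz g => Subgroup.mem_center_iff.1 hz g
  set s0 := σR ^ 2 ^ n with hs0def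
  have hZ0 : ∀ z ∈ Z, s0 z = z := fun z hz =>
    abelian_fixed hrep hσR Z hZinv (fun a ha b _ => (hZc a ha b).symm) hz
  have hkZ : (Nat.card Z : k) ≠ 0 := fun h => hkR (by
    obtain ⟨c, hc⟩ := Z.card_subgroup_dvd_card
    rw [hc, Nat.cast_mul, h, zero_mul])
  have hπZ : ∀ a b : Z, (π.comp Z.subtype) (a * b) = (π.comp Z.subtype) (b * a) := fun a b =>
    congrArg (π.comp Z.subtype) (Subtype.ext (hZc b b.2 a))
  obtain ⟨lam, v, hv, hv0, hlamz⟩ : ∃ (lam : Z →* kˣ) (v : W), IsWeight (π.comp Z.subtype) lam v ∧ v ≠ 0 ∧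
      lam ⟨_, hcomm x₀ y₀⟩ ≠ 1 := by
    by_contra hcon
    push Not at hcon
    exact hπz (eq_one_of_weights (π.comp Z.subtype) hπZ hkZ ⟨_, hcomm x₀ y₀⟩ hcon)
  obtain ⟨j₁, m₁, hjm₁, hfix₁, hsum₁⟩ := orbit_stab hkR Z hZinv hσR hcompat hsum lam hv hv0
  set τ₁ := σR ^ 2 ^ j₁ with hτ₁
  set B₁ := C ^ 2 ^ j₁ with hB₁
  have hB₁compat : ∀ x, B₁ * π x = π (τ₁ x) * B₁ := compat_pow hcompat _
  have hτ₁ℓ : τ₁ ^ 2 ^ (m₁ + 1) = 1 := by rw [hτ₁, ← pow_mul, ← pow_add, hjm₁]; exact hσR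
  have hτ₁Z : ∀ z ∈ Z, τ₁ z ∈ Z := pow_mem_of_invariant hZinv _
  -- the form
  let cm : R → R → kˣ := fun x y => lam ⟨⁅x, y⁆, hcomm x y⟩
  have hmulr : ∀ x y y', cm x (y * y') = cm x y * cm x y' := by
    intro x y y'
    show lam _ = lam _ * lam _
    rw [← map_mul]
    refine congrArg lam (Subtype.ext ?_)
    show ⁅x, y * y'⁆ = ⁅x, y⁆ * ⁅x, y'⁆
    have hc := hZc _ (hcomm x y') y
    calc ⁅x, y * y'⁆ = ⁅x, y⁆ * (y * ⁅x, y'⁆) * y⁻¹ := by simp only [commutatorElement_def]; group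
      _ = _ := by rw [hc]; group
  have hswap : ∀ x y, cm y x = (cm x y)⁻¹ := by
    intro x y
    show lam _ = (lam _)⁻¹
    rw [← map_inv]
    exact congrArg lam (Subtype.ext (commutatorElement_inv x y).symm)
  have hmull : ∀ x x' y, cm (x * x') y = cm x y * cm x' y := fun x x' y => by
    rw [hswap y, hmulr, mul_inv, ← hswap, ← hswap]
  let χ : R →* (R →* kˣ) := MonoidHom.mk' (fun x => MonoidHom.mk' (cm x) (hmulr x))
    fun x x' => MonoidHom.ext fun y => hmull x x' y
  let L : Subgroup R := χ.ker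
  have hL : ∀ u, u ∈ L ↔ ∀ y, cm u y = 1 := fun u => by
    rw [MonoidHom.mem_ker, MonoidHom.ext_iff]; rfl
  haveI : L.Normal := MonoidHom.normal_ker χ
  have hZL : Z ≤ L := fun c hc => (hL c).2 fun y => by
    show lam _ = 1
    rw [show (⟨⁅c, y⁆, hcomm c y⟩ : Z) = 1 from Subtype.ext
      (commutatorElement_eq_one_iff_mul_comm.2 (hZc c hc y).symm), map_one]
  have hτ₁cm : ∀ x y, cm (τ₁ x) (τ₁ y) = cm x y := fun x y =>
    hfix₁ ⟨⁅x, y⁆, hcomm x y⟩ _ (map_commutatorElement τ₁ x y).symm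
  have hτ₁L : ∀ u ∈ L, τ₁ u ∈ L := fun u hu => (hL _).2 fun y => by
    obtain ⟨y, rfl⟩ := τ₁.surjective y
    rw [hτ₁cm]; exact (hL u).1 hu y
  have hactcm : ∀ s x y, cm (act s x) (act s y) = cm x y := fun s x y => by
    show lam _ = lam _
    refine congrArg lam (Subtype.ext ?_)
    show ⁅act s x, act s y⁆ = ⁅x, y⁆
    rw [← map_commutatorElement, hfixZ s _ (hcomm x y)]
  have hactL : ∀ s, ∀ u ∈ L, act s u ∈ L := fun s u hu => (hL _).2 fun y => by
    obtain ⟨y, rfl⟩ := (act s).surjective y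
    rw [hactcm]; exact (hL u).1 hu y
  -- the weight space of the centre
  let U₁ : Submodule k W :=
    { carrier := {w | IsWeight (π.comp Z.subtype) lam w}
      zero_mem' := fun u => by rw [map_zero, smul_zero]
      add_mem' := fun {a b} ha hb u => by rw [map_add, ha, hb, smul_add]
      smul_mem' := fun c w hw u => by rw [map_smul, hw, smul_comm] }
  have hU₁π : ∀ x : R, ∀ w ∈ U₁, π x w ∈ U₁ := fun x w hw u => by
    show π (u : R) (π x w) = _
    rw [← Module.End.mul_apply, ← map_mul, ← hZc _ u.2 x, map_mul, Module.End.mul_apply,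
      show π (u : R) w = ((lam u : kˣ) : k) • w from hw u, map_smul]
  have hU₁B : ∀ w ∈ U₁, B₁ w ∈ U₁ := fun w hw u => by
    obtain ⟨y, hy⟩ : ∃ y : Z, τ₁ (y : R) = u := by
      refine ⟨⟨(τ₁ ^ (2 ^ (m₁ + 1) - 1)) (u : R), pow_mem_of_invariant hτ₁Z _ u u.2⟩, ?_⟩
      show τ₁ ((τ₁ ^ (2 ^ (m₁ + 1) - 1)) (u : R)) = u
      rw [← MulAut.mul_apply, ← pow_succ', Nat.sub_add_cancel Nat.one_le_two_pow, hτ₁ℓ, MulAut.one_apply]
    show π (u : R) (B₁ w) = _
    rw [← hy, ← Module.End.mul_apply, ← hB₁compat, Module.End.mul_apply,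
      show π (y : R) w = ((lam y : kˣ) : k) • w from hw y, map_smul,
      show lam u = lam y from hfix₁ y u hy.symm]
  haveI : Nontrivial U₁ := ⟨⟨v, hv⟩, 0, fun h => hv0 (congrArg Subtype.val h :)⟩
  let π₁ : R →* Module.End k U₁ := restrictRep U₁ hU₁π
  let BU₁ : Module.End k U₁ := B₁.restrict hU₁B
  have hBU₁pow : ∀ (i : ℕ) (w : U₁), ((BU₁ ^ i) w : W) = (B₁ ^ i) (w : W) := restrict_pow_coe hU₁B
  have hBU₁compat : ∀ x, BU₁ * π₁ x = π₁ (τ₁ x) * BU₁ := fun x =>
    LinearMap.ext fun w => Subtype.ext (LinearMap.congr_fun (hB₁compat x) (w : W))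
  have hBU₁sum : ∀ w : U₁, ∑ s ∈ Finset.range (2 ^ (m₁ + 1)), (BU₁ ^ s) w = 0 := fun w => Subtype.ext (by
    rw [Submodule.coe_sum, Submodule.coe_zero]
    simp only [hBU₁pow]
    exact hsum₁ w w.2)
  have hrel : ∀ x y, π₁ x * π₁ y = ((cm x y : kˣ) : k) • (π₁ y * π₁ x) := fun x y =>
    LinearMap.ext fun w => Subtype.ext (by
      show π x (π y (w : W)) = ((cm x y : kˣ) : k) • π y (π x (w : W))
      have h2 : x * y = ⁅x, y⁆ * (y * x) := by simp only [commutatorElement_def]; group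
      rw [← Module.End.mul_apply, ← map_mul, h2, map_mul, Module.End.mul_apply, map_mul, Module.End.mul_apply]
      exact hU₁π y _ (hU₁π x _ w.2) ⟨_, hcomm x y⟩)
  have hcentL : ∀ (l : L) (x : R), π₁ (l : R) * π₁ x = π₁ x * π₁ (l : R) := fun l x => by
    rw [hrel, (hL _).1 l.2 x, Units.val_one, one_smul]
  have hLk : (Nat.card L : k) ≠ 0 := fun h => hkR (by
    obtain ⟨c, hc⟩ := L.card_subgroup_dvd_card
    rw [hc, Nat.cast_mul, h, zero_mul])
  obtain ⟨μ, v₂, hv₂, hv₂0⟩ := exists_weight (π₁.comp L.subtype) (fun a b => by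
    rw [map_mul, map_mul]; exact hcentL a (b : R)) hLk
  obtain ⟨j₂, m, hjm₂, hfix₂, hsum₂⟩ := orbit_stab hkR L hτ₁L hτ₁ℓ hBU₁compat hBU₁sum μ hv₂ hv₂0
  set τ := τ₁ ^ 2 ^ j₂ with hτdef
  set B := BU₁ ^ 2 ^ j₂ with hBdef
  set ℓ := 2 ^ (m + 1) with hℓdef
  have hτσ : τ = σR ^ (2 ^ j₁ * 2 ^ j₂) := by rw [hτdef, hτ₁, ← pow_mul]
  have hdℓ : 2 ^ j₁ * 2 ^ j₂ * ℓ = 2 ^ (n + 1) := by
    rw [hℓdef, ← pow_add, ← pow_add]; congr 1; omega
  have hτℓ : τ ^ ℓ = 1 := by rw [hτσ, ← pow_mul, hdℓ]; exact hσR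
  have hτh : τ ^ 2 ^ m = s0 := by
    rw [hτσ, hs0def, ← pow_mul, ← pow_add, ← pow_add]; congr 2; omega
  have hBcompat : ∀ x, B * π₁ x = π₁ (τ x) * B := compat_pow hBU₁compat _
  have hτL : ∀ u ∈ L, τ u ∈ L := pow_mem_of_invariant hτ₁L _
  have hs0L : ∀ u ∈ L, s0 u ∈ L := fun u hu => hτh ▸ pow_mem_of_invariant hτL _ u hu
  have hτcm : ∀ x y, cm (τ x) (τ y) = cm x y := fun x y => by
    rw [hτdef]
    induction 2 ^ j₂ with
    | zero => rfl
    | succ i ih => rw [pow_succ', MulAut.mul_apply, MulAut.mul_apply, hτ₁cm, ih]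
  have hs0cm : ∀ x y, cm (s0 x) (s0 y) = cm x y := fun x y => by
    rw [← hτh]
    induction 2 ^ m with
    | zero => rfl
    | succ i ih => rw [pow_succ', MulAut.mul_apply, MulAut.mul_apply, hτcm, ih]
  -- the weight space of the radical
  let U : Submodule k U₁ :=
    { carrier := {w | IsWeight (π₁.comp L.subtype) μ w}
      zero_mem' := fun u => by rw [map_zero, smul_zero]
      add_mem' := fun {a b} ha hb u => by rw [map_add, ha, hb, smul_add]
      smul_mem' := fun c w hw u => by rw [map_smul, hw, smul_comm] }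
  have hUπ : ∀ x : R, ∀ w ∈ U, π₁ x w ∈ U := fun x w hw u => by
    show π₁ (u : R) (π₁ x w) = _
    rw [← Module.End.mul_apply, hcentL, Module.End.mul_apply,
      show π₁ (u : R) w = ((μ u : kˣ) : k) • w from hw u, map_smul]
  have hUB : ∀ w ∈ U, B w ∈ U := fun w hw u => by
    obtain ⟨y, hy⟩ : ∃ y : L, τ (y : R) = u := by
      refine ⟨⟨(τ ^ (ℓ - 1)) (u : R), pow_mem_of_invariant hτL _ u u.2⟩, ?_⟩
      show τ ((τ ^ (ℓ - 1)) (u : R)) = u
      rw [← MulAut.mul_apply, ← pow_succ', Nat.sub_add_cancel Nat.one_le_two_pow, hτℓ, MulAut.one_apply]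
    show π₁ (u : R) (B w) = _
    rw [← hy, ← Module.End.mul_apply, ← hBcompat, Module.End.mul_apply,
      show π₁ (y : R) w = ((μ y : kˣ) : k) • w from hw y, map_smul,
      show μ u = μ y from hfix₂ y u hy.symm]
  haveI : Nontrivial U := ⟨⟨v₂, hv₂⟩, 0, fun h => hv₂0 (congrArg Subtype.val h :)⟩
  let πU : R →* Module.End k U := restrictRep U hUπ
  let BU : Module.End k U := B.restrict hUB
  have hBpow : ∀ (i : ℕ) (w : U), ((BU ^ i) w : U₁) = (B ^ i) (w : U₁) := restrict_pow_coe hUB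
  have hBUℓ : BU ^ ℓ = 1 := LinearMap.ext fun w => Subtype.ext (Subtype.ext (by
    rw [hBpow, hBdef, ← pow_mul, hBU₁pow, hB₁, ← pow_mul, ← mul_assoc, hdℓ, hC]
    rfl))
  have hBUcompat : ∀ x, BU * πU x = πU (τ x) * BU := fun x =>
    LinearMap.ext fun w => Subtype.ext (LinearMap.congr_fun (hBcompat x) (w : U₁))
  have hBUsum : ∀ w : U, ∑ s ∈ Finset.range ℓ, (BU ^ s) w = 0 := fun w => Subtype.ext (by
    rw [Submodule.coe_sum, Submodule.coe_zero]
    simp only [hBpow]
    exact hsum₂ w w.2)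
  let F : FormRep πU L :=
    { χ := χ
      scalar := fun u hu => ⟨((μ ⟨u, hu⟩ : kˣ) : k), LinearMap.ext fun w => Subtype.ext (w.2 ⟨u, hu⟩)⟩
      rel := fun x y => LinearMap.ext fun w => Subtype.ext (LinearMap.congr_fun (hrel x y) (w : U₁))
      left_rad := fun u hu y => (hL u).1 hu y
      right_rad := fun x hx => (hL x).2 fun y => by
        rw [hswap y, show cm y x = 1 from hx y, inv_one]
      rad_right := fun u hu y => by
        show cm y u = 1
        rw [hswap u, (hL u).1 hu, inv_one] }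
  -- the module
  let qm := QuotientGroup.mk' L
  have hqm : ∀ {x : R}, qm x = 1 ↔ x ∈ L := fun {x} => QuotientGroup.eq_one_iff x
  letI : CommGroup (R ⧸ L) := { (inferInstance : Group (R ⧸ L)) with
    mul_comm := fun a b => by
      induction a using QuotientGroup.induction_on with
      | _ a =>
        induction b using QuotientGroup.induction_on with
        | _ b =>
          rw [← QuotientGroup.mk_mul, ← QuotientGroup.mk_mul, QuotientGroup.eq,
            show (a * b)⁻¹ * (b * a) = ⁅b⁻¹, a⁻¹⁆ by simp only [commutatorElement_def]; group]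
          exact hZL (hcomm _ _) }
  have hVr : ∀ y : R ⧸ L, y ^ r = 1 := fun y => by
    induction y using QuotientGroup.induction_on with
    | _ x => rw [← QuotientGroup.mk_pow, QuotientGroup.eq_one_iff]; exact hZL (hpow x)
  have hsq1 : ∀ y : R ⧸ L, y * y = 1 → y = 1 := fun y hy =>
    orderOf_eq_one_iff.1 (Nat.eq_one_of_dvd_coprimes ((Nat.coprime_primes hr Nat.prime_two).2 hr2)
      (orderOf_dvd_of_pow_eq_one (hVr y)) (orderOf_dvd_of_pow_eq_one (by rw [sq, hy])))
  have hcmsq : ∀ x y, cm x y * cm x y = 1 → cm x y = 1 := fun x y h => by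
    refine orderOf_eq_one_iff.1 (Nat.eq_one_of_dvd_coprimes ((Nat.coprime_primes hr Nat.prime_two).2 hr2)
      (orderOf_dvd_of_pow_eq_one ?_) (orderOf_dvd_of_pow_eq_one (by rw [sq, h])))
    have h1 : χ (x ^ r) y = cm x y ^ r := by rw [map_pow, MonoidHom.pow_apply]; rfl
    rw [← h1]; exact (hL _).1 (hZL (hpow x)) y
  let tq : R ⧸ L →* R ⧸ L := QuotientGroup.map L L τ.toMonoidHom fun u hu => hτL u hu
  have htqs : Function.Surjective tq := fun y => by
    induction y using QuotientGroup.induction_on with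
    | _ y =>
      obtain ⟨x, rfl⟩ := τ.surjective y
      exact ⟨(x : R ⧸ L), rfl⟩
  let bq : Equiv.Perm (R ⧸ L) := Equiv.ofBijective tq htqs.bijective_of_finite
  have hbq : ∀ x : R, bq (x : R ⧸ L) = ((τ x : R) : R ⧸ L) := fun x => rfl
  have hbqpow : ∀ (i : ℕ) (x : R), (bq ^ i) (x : R ⧸ L) = (((τ ^ i) x : R) : R ⧸ L) := fun i => by
    induction i with
    | zero => intro x; rfl
    | succ i ih => intro x; rw [pow_succ', Equiv.Perm.mul_apply, ih, hbq, pow_succ' τ, MulAut.mul_apply]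
  let f : R ⧸ L →* R ⧸ L := QuotientGroup.map L L s0.toMonoidHom fun u hu => hs0L u hu
  have hf : ∀ x : R, f (x : R ⧸ L) = ((s0 x : R) : R ⧸ L) := fun x => rfl
  have hs0s0 : ∀ x, s0 (s0 x) = x := fun x => by
    rw [hs0def, ← MulAut.mul_apply, ← sq, ← pow_mul, ← pow_succ, hσR, MulAut.one_apply]
  have hff : ∀ y, f (f y) = y := fun y => by
    induction y using QuotientGroup.induction_on with
    | _ x => rw [hf, hf, hs0s0]
  -- the action of the moved group
  let ωS : S → (R ⧸ L →* R ⧸ L) := fun s => QuotientGroup.map L L (act s).toMonoidHom fun u hu => hactL s u hu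
  have hactσ : ∀ (i : ℕ) (s : S) (x : R), (σR ^ i) (act s x) = act ((σS ^ i) s) ((σR ^ i) x) := fun i => by
    induction i with
    | zero => intro s x; rfl
    | succ i ih => intro s x; rw [pow_succ', MulAut.mul_apply, ih, hact, pow_succ' σS]; rfl
  obtain ⟨s₁, x₁, hs₁⟩ : ∃ s x, ¬ (act s x)⁻¹ * act ((σS ^ 2 ^ n) s) x ∈ L := by
    by_contra hcon
    push Not at hcon
    let K : Subgroup S :=
      { carrier := {s | ∀ x, x⁻¹ * act s x ∈ L}
        one_mem' := fun x => by
          rw [map_one, MulAut.one_apply, inv_mul_cancel]; exact one_mem _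
        mul_mem' := fun {a b} ha hb x => by
          rw [map_mul, MulAut.mul_apply,
            show x⁻¹ * act a (act b x) = x⁻¹ * act b x * ((act b x)⁻¹ * act a (act b x)) by group]
          exact mul_mem (hb x) (ha _)
        inv_mem' := fun {a} ha x => by
          have h := inv_mem (ha ((act a⁻¹) x))
          rwa [← MulAut.mul_apply, ← map_mul, mul_inv_cancel, map_one, MulAut.one_apply, mul_inv_rev, inv_inv] at h }
    have hK : K = ⊤ := D.eq_top_of_diff fun s x => by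
      have h := hactL s⁻¹ _ (hcon s x)
      rwa [map_mul, map_inv, ← MulAut.mul_apply, ← map_mul, inv_mul_cancel, map_one, MulAut.one_apply,
        ← MulAut.mul_apply, ← map_mul] at h
    have hLtop : L = ⊤ := hgen L fun s x => (hK ▸ Subgroup.mem_top s : s ∈ K) x
    exact hlamz ((hL x₀).1 (hLtop ▸ Subgroup.mem_top _) y₀)
  -- inverted elements
  let R₁ : Subgroup R :=
    { carrier := {x | (x : R ⧸ L) * f (x : R ⧸ L) = 1}
      one_mem' := by simp
      mul_mem' := fun {a b} ha hb => by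
        simp only [Set.mem_ofPred_eq, QuotientGroup.mk_mul, map_mul] at ha hb ⊢
        rw [mul_mul_mul_comm, ha, hb, mul_one]
      inv_mem' := fun {a} ha => by
        simp only [Set.mem_ofPred_eq, QuotientGroup.mk_inv, map_inv] at ha ⊢
        rw [← mul_inv, ha, inv_one] }
  have hR₁ : ∀ x, x ∈ R₁ ↔ (x : R ⧸ L) * f (x : R ⧸ L) = 1 := fun x => Iff.rfl
  have hLR₁ : L ≤ R₁ := fun x hx => (hR₁ x).2 (by rw [(QuotientGroup.eq_one_iff x).2 hx, map_one, one_mul])
  have horth : ∀ x ∈ R₁, ∀ y : R, (y : R ⧸ L)⁻¹ * f (y : R ⧸ L) = 1 → cm x y = 1 := by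
    intro x hx y hy
    refine hcmsq x y ?_
    have h1 : x * s0 x ∈ L := (QuotientGroup.eq_one_iff _).1 (by rw [QuotientGroup.mk_mul, ← hf]; exact hx)
    have h2 : y⁻¹ * s0 y ∈ L := (QuotientGroup.eq_one_iff _).1 (by
      rw [QuotientGroup.mk_mul, QuotientGroup.mk_inv, ← hf]; exact hy)
    have h4 : cm (x * s0 x) (s0 y) = 1 := (hL _).1 h1 _
    have h5 : cm (y⁻¹ * s0 y) x = 1 := (hL _).1 h2 _
    rw [hmull, hs0cm] at h4
    have h6 : cm x (s0 y) = cm x y := by
      rw [show s0 y = y * (y⁻¹ * s0 y) by group, hmulr, hswap (y⁻¹ * s0 y) x, h5, inv_one, mul_one]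
    rwa [h6] at h4
  have hτR₁ : ∀ x ∈ R₁, τ x ∈ R₁ := fun x hx => by
    rw [hR₁] at hx ⊢
    have hcomm' : f (tq (x : R ⧸ L)) = tq (f (x : R ⧸ L)) := by
      show ((s0 (τ x) : R) : R ⧸ L) = ((τ (s0 x) : R) : R ⧸ L)
      rw [← hτh, ← MulAut.mul_apply, ← MulAut.mul_apply, ← pow_succ, pow_succ']
    show tq (x : R ⧸ L) * f (tq (x : R ⧸ L)) = 1
    rw [hcomm', ← map_mul, hx, map_one]
  haveI : (L.subgroupOf R₁).Normal := inferInstance
  haveI : Fintype (R ⧸ L) := Fintype.ofFinite _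
  haveI : Fintype (R₁ ⧸ L.subgroupOf R₁) := Fintype.ofFinite _
  let F₁ : FormRep (πU.comp R₁.subtype) (L.subgroupOf R₁) :=
    { χ := MonoidHom.mk' (fun x => (χ (x : R)).comp R₁.subtype) fun x y => by
        refine MonoidHom.ext fun z => ?_
        simp
      scalar := fun u hu => F.scalar (u : R) hu
      rel := fun x y => F.rel (x : R) (y : R)
      left_rad := fun u hu y => F.left_rad (u : R) hu (y : R)
      right_rad := fun x hx => (hL _).2 fun y => hcmsq (x : R) y (by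
        have hd : ∀ z : R, (z : R ⧸ L)⁻¹ * f (z : R ⧸ L) = 1 → cm (x : R) z = 1 := horth _ x.2
        have h1 : cm (x : R) (y * s0 y) = 1 := hd _ (by
          rw [QuotientGroup.mk_mul, map_mul, ← hf, hff, mul_comm (f (y : R ⧸ L)), inv_mul_cancel])
        have h2 : cm (x : R) (y * (s0 y)⁻¹) = 1 := by
          rw [hswap _ (x : R), show cm (y * (s0 y)⁻¹) x = 1 from hx ⟨y * (s0 y)⁻¹, (hR₁ _).2 (by
            rw [QuotientGroup.mk_mul, QuotientGroup.mk_inv, map_mul, map_inv, ← hf, hff]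
            rw [mul_mul_mul_comm, mul_comm (f (y : R ⧸ L))⁻¹, mul_mul_mul_comm]
            simp)⟩, inv_one]
        have h3 := congrArg₂ (· * ·) h1 h2
        simp only [mul_one] at h3
        rw [hmulr, hmulr, mul_mul_mul_comm, ← hmulr (x : R) (s0 y), mul_inv_cancel] at h3
        rwa [show cm (x : R) 1 = 1 from map_one (χ (x : R)), mul_one] at h3)
      rad_right := fun u hu y => F.rad_right (u : R) hu (y : R) }
  let b₁ := resAut R₁ τ hτR₁
  let tq₁ : R₁ ⧸ L.subgroupOf R₁ →* R₁ ⧸ L.subgroupOf R₁ :=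
    QuotientGroup.map _ _ b₁.toMonoidHom fun u hu => hτL (u : R) hu
  have htqs₁ : Function.Surjective tq₁ := fun y => by
    induction y using QuotientGroup.induction_on with
    | _ y =>
      obtain ⟨x, rfl⟩ := b₁.surjective y
      exact ⟨(x : R₁ ⧸ L.subgroupOf R₁), rfl⟩
  let bq₁ : Equiv.Perm (R₁ ⧸ L.subgroupOf R₁) := Equiv.ofBijective tq₁ htqs₁.bijective_of_finite
  have hbq₁pow : ∀ (i : ℕ) (x : R₁), (bq₁ ^ i) (x : R₁ ⧸ L.subgroupOf R₁) =
      (((b₁ ^ i) x : R₁) : R₁ ⧸ L.subgroupOf R₁) := fun i => by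
    induction i with
    | zero => intro x; rfl
    | succ i ih => intro x; rw [pow_succ', Equiv.Perm.mul_apply, ih, pow_succ' b₁, MulAut.mul_apply]; rfl
  have hfixs0 : ∀ i : ℕ, ¬ ℓ ∣ i → ∀ y : R ⧸ L, (bq ^ i) y = y → f y = y := by
    intro i hi y hy
    induction y using QuotientGroup.induction_on with
    | _ x =>
      have hbℓ : bq ^ ℓ = 1 := Equiv.ext fun y => by
        induction y using QuotientGroup.induction_on with
        | _ x => rw [hbqpow, hτℓ]; rfl
      obtain ⟨t, ht⟩ := exists_mul_mod Nat.prime_two (i := i % ℓ) (fun h => hi (Nat.dvd_of_mod_eq_zero h))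
        (Nat.mod_lt _ (Nat.two_pow_pos _))
      have hyt : ∀ t, ((bq ^ i) ^ t) (x : R ⧸ L) = (x : R ⧸ L) := fun t => by
        induction t with
        | zero => rfl
        | succ t ih => rw [pow_succ', Equiv.Perm.mul_apply, ih, hy]
      have hx := hyt t
      rw [pow_eq_pow_mod i hbℓ, ← pow_mul, pow_eq_pow_mod _ hbℓ, ht, hbqpow, hτh, ← hf] at hx
      exact hx
  have hinj₁ : ∀ x : R₁, ((x : R) : R ⧸ L) = 1 ↔ (x : R₁ ⧸ L.subgroupOf R₁) = 1 := fun x => by
    rw [QuotientGroup.eq_one_iff, QuotientGroup.eq_one_iff, Subgroup.mem_subgroupOf]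
  have hsemi₁ : ∀ i : ℕ, ¬ ℓ ∣ i → ∀ y : R₁ ⧸ L.subgroupOf R₁, (bq₁ ^ i) y = y → y = 1 := by
    intro i hi y hy
    induction y using QuotientGroup.induction_on with
    | _ x =>
      rw [← hinj₁]
      have h1 : (bq ^ i) ((x : R) : R ⧸ L) = ((x : R) : R ⧸ L) := by
        rw [hbq₁pow, QuotientGroup.eq, Subgroup.mem_subgroupOf, Subgroup.coe_mul, Subgroup.coe_inv, resAut_pow] at hy
        rw [hbqpow, QuotientGroup.eq]; exact hy
      have h2 := (hR₁ _).1 x.2
      rw [hfixs0 i hi _ h1] at h2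
      exact hsq1 _ h2
  obtain ⟨y₁, hy₁⟩ : ∃ y : R₁ ⧸ L.subgroupOf R₁, y ≠ 1 := by
    by_contra hcon
    push Not at hcon
    have hfy : ∀ x : R, f (x : R ⧸ L) = (x : R ⧸ L) := fun x => by
      have hmem : x * (s0 x)⁻¹ ∈ R₁ := (hR₁ _).2 (by
        rw [QuotientGroup.mk_mul, QuotientGroup.mk_inv, map_mul, map_inv, ← hf, hff]
        rw [mul_mul_mul_comm, mul_comm (f (x : R ⧸ L))⁻¹, mul_mul_mul_comm]
        simp)
      have h := (hinj₁ ⟨_, hmem⟩).2 (hcon _)
      rw [QuotientGroup.mk_mul, QuotientGroup.mk_inv, ← hf, mul_inv_eq_one] at h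
      exact h.symm
    refine hs₁ (QuotientGroup.eq.1 ?_)
    have h1 := hfy (act s₁ x₁)
    rw [hf, hs0def, hactσ, ← hs0def] at h1
    refine h1.symm.trans ?_
    show ωS _ ((s0 x₁ : R) : R ⧸ L) = ωS _ (x₁ : R ⧸ L)
    rw [← hf, hfy]
  have hm₁ : (Fintype.card (R₁ ⧸ L.subgroupOf R₁) : k) ≠ 0 := fun h => hkR (by
    obtain ⟨c, hc⟩ := (L.subgroupOf R₁).card_quotient_dvd_card
    obtain ⟨c', hc'⟩ := R₁.card_subgroup_dvd_card
    rw [hc', hc, Nat.cast_mul, Nat.cast_mul, Nat.card_eq_fintype_card, h, zero_mul, zero_mul])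
  have hℓk : (ℓ : k) ≠ 0 := by rw [hℓdef, Nat.cast_pow]; exact pow_ne_zero _ hk2
  have hℓ1 : 1 < ℓ := Nat.one_lt_two_pow (Nat.succ_ne_zero m)
  have hord₁ : orderOf bq₁ = ℓ := by
    refine Nat.dvd_antisymm (orderOf_dvd_of_pow_eq_one (Equiv.ext fun y => ?_)) (by_contra fun h => ?_)
    · induction y using QuotientGroup.induction_on with
      | _ x =>
        rw [hbq₁pow, show (b₁ ^ ℓ) x = x from Subtype.ext (by rw [resAut_pow, hτℓ]; rfl)]
        rfl
    · exact hy₁ (hsemi₁ (orderOf bq₁) h y₁ (by rw [pow_orderOf_eq_one]; rfl))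
  obtain ⟨x, hxsq, hxlow, hxhigh⟩ := no_one_bound F₁ hm₁ b₁ bq₁ (fun _ => rfl) hℓ1 hℓk hord₁ BU hBUℓ
    (fun x => hBUcompat (x : R)) hBUsum
  have hfix₁count : ∑ i ∈ Finset.range ℓ, Nat.card {y : R₁ ⧸ L.subgroupOf R₁ // (bq₁ ^ i) y = y} =
      x * x + (ℓ - 1) := by
    rw [hxsq, ← Finset.add_sum_erase _ _ (Finset.mem_range.2 (Nat.two_pow_pos (m + 1)))]
    congr 1
    · rw [← Nat.card_eq_fintype_card]
      exact Nat.card_congr (Equiv.subtypeUnivEquiv fun y => rfl)
    · rw [Finset.sum_congr rfl fun i hi =>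
        show Nat.card {y : R₁ ⧸ L.subgroupOf R₁ // (bq₁ ^ i) y = y} = 1 from ?_]
      · rw [Finset.sum_const, Finset.card_erase_of_mem (Finset.mem_range.2 (Nat.two_pow_pos (m + 1))),
          Finset.card_range, smul_eq_mul, mul_one]
      · obtain ⟨hi0, hiℓ⟩ := Finset.mem_erase.1 hi
        rw [Finset.mem_range] at hiℓ
        refine Nat.card_eq_one_iff_exists.2 ⟨⟨1, ?_⟩, fun y => Subtype.ext (hsemi₁ i ?_ y.1 y.2)⟩
        · rw [← QuotientGroup.mk_one, hbq₁pow, map_one]
        · exact fun h => hi0 (Nat.eq_zero_of_dvd_of_lt h hiℓ)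
  rw [hfix₁count] at hxlow hxhigh
  have hx1 : 1 < x := by
    by_contra h
    have h2 : Fintype.card (R₁ ⧸ L.subgroupOf R₁) ≤ 1 := by
      rw [← hxsq]; exact Nat.mul_le_mul (by omega : x ≤ 1) (by omega : x ≤ 1) |>.trans (by norm_num)
    haveI := Fintype.card_le_one_iff_subsingleton.1 h2
    exact hy₁ (Subsingleton.elim _ _)
  obtain ⟨l, hl⟩ : ∃ l, ℓ = l + 1 := ⟨ℓ - 1, by omega⟩
  have hxl : x = l := by
    rw [hl, Nat.add_sub_cancel] at hxlow hxhigh
    refine le_antisymm ?_ ?_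
    · by_contra h
      nlinarith
    · by_contra h
      obtain ⟨x', rfl⟩ : ∃ x', x = x' + 2 := ⟨x - 2, by omega⟩
      obtain ⟨l', rfl⟩ : ∃ l', l = x' + 3 + l' := ⟨l - (x' + 3), by omega⟩
      nlinarith
  -- the whole module
  have hm' : (Fintype.card (R ⧸ L) : k) ≠ 0 := fun h => hkR (by
    obtain ⟨c, hc⟩ := L.card_quotient_dvd_card
    rw [hc, Nat.cast_mul, Nat.card_eq_fintype_card, h, zero_mul])
  have hord : orderOf bq = ℓ := by
    have hbℓ : bq ^ ℓ = 1 := Equiv.ext fun y => by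
      induction y using QuotientGroup.induction_on with
      | _ x => rw [hbqpow, hτℓ]; rfl
    refine Nat.dvd_antisymm (orderOf_dvd_of_pow_eq_one hbℓ) (by_contra fun h => ?_)
    induction y₁ using QuotientGroup.induction_on with
    | _ z =>
      refine hy₁ ((hinj₁ z).1 (hsq1 _ ?_))
      have h2 := (hR₁ _).1 z.2
      rw [hfixs0 (orderOf bq) h _ (by rw [pow_orderOf_eq_one]; rfl)] at h2
      exact h2
  obtain ⟨X, hXsq, -, hXhigh⟩ := no_one_bound F hm' τ bq hbq hℓ1 hℓk hord BU hBUℓ hBUcompat hBUsum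
  have hrange : Fintype.card (R₁ ⧸ L.subgroupOf R₁) = Nat.card (MonoidHom.id (R ⧸ L) / f).range := by
    rw [← Nat.card_eq_fintype_card]
    let qr := qm.comp R₁.subtype
    have hker : qr.ker = L.subgroupOf R₁ := Subgroup.ext fun z => by
      rw [MonoidHom.mem_ker, Subgroup.mem_subgroupOf]; exact hqm
    refine Nat.card_congr (((QuotientGroup.quotientMulEquivOfEq hker.symm).trans
      (QuotientGroup.quotientKerEquivRange qr)).trans (MulEquiv.subgroupCongr ?_)).toEquiv
    ext y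
    constructor
    · rintro ⟨z, rfl⟩
      obtain ⟨i, hi⟩ := exists_pow_eq_self_of_coprime (n := 2) (x := ((z : R) : R ⧸ L)) (by
        refine Nat.Coprime.coprime_dvd_right (orderOf_dvd_of_pow_eq_one (hVr _)) ?_
        exact (Nat.coprime_primes Nat.prime_two hr).2 (Ne.symm hr2))
      refine ⟨((z : R) : R ⧸ L) ^ i, ?_⟩
      rw [MonoidHom.div_apply, MonoidHom.id_apply, map_pow, eq_inv_of_mul_eq_one_right ((hR₁ _).1 z.2), inv_pow,
        div_inv_eq_mul, ← sq, pow_right_comm]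
      exact hi
    · rintro ⟨y, rfl⟩
      induction y using QuotientGroup.induction_on with
      | _ w =>
        refine ⟨⟨w * (s0 w)⁻¹, (hR₁ _).2 ?_⟩, ?_⟩
        · rw [QuotientGroup.mk_mul, QuotientGroup.mk_inv, map_mul, map_inv, ← hf, hff]
          rw [mul_mul_mul_comm, mul_comm (f (w : R ⧸ L))⁻¹, mul_mul_mul_comm]
          simp
        · show ((w * (s0 w)⁻¹ : R) : R ⧸ L) = (w : R ⧸ L) / f (w : R ⧸ L)
          rw [div_eq_mul_inv, hf, QuotientGroup.mk_mul, QuotientGroup.mk_inv]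
  have hV₀τ : ∀ y : R ⧸ L, f y = y → bq y = y := by
    refine fixed_of_bound bq f (l := l) (by omega) (hl ▸ hfixs0) ?_ ?_
    · rw [card_split f, ← hrange, ← hxsq, hxl]
    · rw [hXsq, hl, Nat.add_sub_cancel, ← Nat.card_eq_fintype_card] at hXhigh
      exact hXhigh
  -- the inverted part has order `r ^ 2`
  obtain ⟨a, ha⟩ := hRp.exists_card_eq
  obtain ⟨e, -, he⟩ := (Nat.dvd_prime_pow hr).1 (show x ∣ r ^ a by
    rw [← ha]
    refine (dvd_mul_right x x).trans ?_
    rw [hxsq, ← Nat.card_eq_fintype_card]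
    exact (L.subgroupOf R₁).card_quotient_dvd_card.trans R₁.card_subgroup_dvd_card)
  have hm1 : 1 ≤ m := by
    by_contra h
    obtain rfl : m = 0 := by omega
    rw [hℓdef, zero_add, pow_one] at hl
    omega
  have he1 : e = 1 := exponent_eq_one (hr.odd_of_ne_two hr2) hr.one_lt (M := m + 1) (by omega) (by
    rw [← he, hxl, ← hℓdef, hl])
  rw [he1, pow_one] at he
  -- the second level
  let tA : MulAut (R ⧸ L) := MulEquiv.ofBijective tq htqs.bijective_of_finite
  have htA : ∀ (i : ℕ) (y : R ⧸ L), (tA ^ i) y = (bq ^ i) y := fun i => by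
    induction i with
    | zero => intro y; rfl
    | succ i ih => intro y; rw [pow_succ', MulAut.mul_apply, pow_succ' bq, Equiv.Perm.mul_apply, ih]; rfl
  have hωmul : ∀ a b y, ωS (a * b) y = ωS a (ωS b y) := fun a b y => by
    induction y using QuotientGroup.induction_on with
    | _ w =>
      show ((act (a * b) w : R) : R ⧸ L) = ((act a (act b w) : R) : R ⧸ L)
      rw [map_mul, MulAut.mul_apply]
  have hω1 : ∀ y, ωS 1 y = y := fun y => by
    induction y using QuotientGroup.induction_on with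
    | _ w =>
      show ((act 1 w : R) : R ⧸ L) = _
      rw [map_one, MulAut.one_apply]
  let πV : S →* MulAut (R ⧸ L) :=
    { toFun := fun s =>
        { toFun := ωS s
          invFun := ωS s⁻¹
          left_inv := fun y => by rw [← hωmul, inv_mul_cancel, hω1]
          right_inv := fun y => by rw [← hωmul, mul_inv_cancel, hω1]
          map_mul' := map_mul (ωS s) }
      map_one' := MulEquiv.ext hω1
      map_mul' := fun a b => MulEquiv.ext (hωmul a b) }
  have htAf : (tA ^ 2 ^ m).toMonoidHom = f := MonoidHom.ext fun y => by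
    induction y using QuotientGroup.induction_on with
    | _ w =>
      show (tA ^ 2 ^ m) (w : R ⧸ L) = f (w : R ⧸ L)
      rw [htA, hbqpow, hτh, hf]
  obtain ⟨hq3, hm1'⟩ := module_level D hr hr2 hqr hVr hm1 (d := 2 ^ j₁ * 2 ^ j₂) (by rw [← hℓdef, hdℓ]) tA
    (MulEquiv.ext fun y => by
      induction y using QuotientGroup.induction_on with
      | _ w => rw [htA, hbqpow, ← hℓdef, hτℓ]; rfl)
    (fun y => by
      rw [show (tA ^ 2 ^ m) y = f y from DFunLike.congr_fun htAf y]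
      exact hV₀τ _ (by rw [map_mul, hff, mul_comm]))
    (by rw [htAf, ← hrange, ← hxsq, he, sq]) πV
    (fun s => MulEquiv.ext fun y => by
      induction y using QuotientGroup.induction_on with
      | _ w =>
        show ((τ (act s w) : R) : R ⧸ L) = ((act _ (τ w) : R) : R ⧸ L)
        rw [hτσ, hactσ])
    ⟨s₁, fun h => hs₁ (QuotientGroup.eq.1 (MulEquiv.congr_fun h (x₁ : R ⧸ L)).symm)⟩
  refine hqr (hq3.trans ?_)
  rw [hℓdef, hm1'] at hl
  omega

end CfsgLib.GrossFit
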