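import Cfsg.Agent.ShultGross.Core
import Mathlib

/-!
A group of odd prime power order all of whose proper invariant subgroups are centralised by the involutory power of
an automorphism of two power order.
-/

set_option autoImplicit false
set_option linter.style.haveILetI false
set_option linter.unusedSectionVars false

namespace CfsgLib.GrossFit

open CfsgLib.ShultGross (pow_mem_of_invariant)
open scoped commutatorElement

variable {S : Type*} [Group S]

/-- Minimality among the invariant subgroups moved by the involutory power. -/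
structure Moved (σ : MulAut S) (q n : ℕ) : Prop where
  hq : q.Prime
  hq2 : q ≠ 2
  hS : IsPGroup q S
  hσ : σ ^ 2 ^ (n + 1) = 1
  hmin : ∀ N : Subgroup S, N ≠ ⊤ → (∀ x ∈ N, σ x ∈ N) → ∀ x ∈ N, (σ ^ 2 ^ n) x = x
  hmoves : σ ^ 2 ^ n ≠ 1

namespace Moved

variable {σ : MulAut S} {q n : ℕ} [Finite S] (D : Moved σ q n)

include D

theorem s0_s0 (x : S) : (σ ^ 2 ^ n) ((σ ^ 2 ^ n) x) = x := by
  rw [← MulAut.mul_apply, ← sq, ← pow_mul, ← pow_succ, D.hσ, MulAut.one_apply]

theorem mem_of_sq {R : Subgroup S} {x : S} (hx : x * x ∈ R) : x ∈ R := by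
  haveI := Fact.mk D.hq
  obtain ⟨j, hj⟩ := IsPGroup.iff_orderOf.1 D.hS x
  obtain ⟨m, hm⟩ := exists_pow_eq_self_of_coprime (n := 2) (x := x)
    (by rw [hj]; exact (((Nat.coprime_primes D.hq Nat.prime_two).2 D.hq2).pow_left j).symm)
  rw [← hm, sq]
  exact pow_mem hx m

theorem pow_comm (i j : ℕ) (x : S) : (σ ^ i) ((σ ^ j) x) = (σ ^ j) ((σ ^ i) x) := by
  rw [← MulAut.mul_apply, ← MulAut.mul_apply, ← pow_add, ← pow_add, add_comm]

/-- The fixed points of the involutory power. -/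
def fix0 (_D : Moved σ q n) : Subgroup S where
  carrier := {x | (σ ^ 2 ^ n) x = x}
  one_mem' := map_one _
  mul_mem' {a b} ha hb := by simp only [Set.mem_ofPred_eq] at ha hb ⊢; rw [map_mul, ha, hb]
  inv_mem' {a} ha := by simp only [Set.mem_ofPred_eq] at ha ⊢; rw [map_inv, ha]

theorem mem_fix0 {x : S} : x ∈ D.fix0 ↔ (σ ^ 2 ^ n) x = x := Iff.rfl

theorem fix0_inv {x : S} (hx : x ∈ D.fix0) : σ x ∈ D.fix0 := by
  have h := D.pow_comm (2 ^ n) 1 x
  rw [pow_one] at h
  show _ = _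
  rw [h, (D.mem_fix0.1 hx : _)]

theorem fix0_ne_top : D.fix0 ≠ ⊤ := fun h =>
  D.hmoves (MulEquiv.ext fun x => D.mem_fix0.1 (h ▸ Subgroup.mem_top x))

theorem le_fix0 {N : Subgroup S} (h : N ≠ ⊤) (hN : ∀ x ∈ N, σ x ∈ N) : N ≤ D.fix0 := D.hmin N h hN

theorem mem_fix0_of_diff {x : S} (hw : x⁻¹ * (σ ^ 2 ^ n) x ∈ D.fix0) : x ∈ D.fix0 := by
  have h := D.mem_fix0.1 hw
  rw [map_mul, map_inv, D.s0_s0] at h
  rw [D.mem_fix0]
  set w := x⁻¹ * (σ ^ 2 ^ n) x with hwdef
  have h1 : w * w = 1 := by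
    conv_lhs => arg 1; rw [← h]
    rw [hwdef]; group
  have hw1 : w = 1 := Subgroup.mem_bot.1 (D.mem_of_sq (R := (⊥ : Subgroup S)) (by rw [h1]; exact one_mem _))
  rw [hwdef, inv_mul_eq_one] at hw1
  exact hw1.symm

theorem eq_top_of_diff {M : Subgroup S} (h : ∀ x : S, x⁻¹ * (σ ^ 2 ^ n) x ∈ M) : M = ⊤ := by
  let K : Subgroup S := Subgroup.closure (Set.range fun x => x⁻¹ * (σ ^ 2 ^ n) x)
  have hle : K ≤ M := (Subgroup.closure_le M).2 (by rintro _ ⟨x, rfl⟩; exact h x)
  suffices hK : K = ⊤ from top_le_iff.1 (hK ▸ hle)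
  by_contra hne
  have hinv : ∀ u ∈ K, σ u ∈ K := fun u hu => by
    induction hu using Subgroup.closure_induction with
    | mem w hw =>
      obtain ⟨x, rfl⟩ := hw
      refine Subgroup.subset_closure ⟨σ x, ?_⟩
      have hc := D.pow_comm 1 (2 ^ n) x
      rw [pow_one] at hc
      simp only [map_mul, map_inv, hc]
    | one => rw [map_one]; exact one_mem _
    | mul a b _ _ iha ihb => rw [map_mul]; exact mul_mem iha ihb
    | inv a _ iha => rw [map_inv]; exact inv_mem iha
  exact D.hmoves (MulEquiv.ext fun x =>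
    D.mem_fix0.1 (D.mem_fix0_of_diff (D.le_fix0 hne hinv (Subgroup.subset_closure ⟨x, rfl⟩))))

theorem nontrivial_group : Nontrivial S := by
  by_contra h
  rw [not_nontrivial_iff_subsingleton] at h
  exact D.hmoves (MulEquiv.ext fun x => Subsingleton.elim _ _)

theorem commutator_mem (x y : S) : ⁅x, y⁆ ∈ D.fix0 := by
  haveI := Fact.mk D.hq
  haveI := D.nontrivial_group
  haveI : Group.IsNilpotent S := D.hS.isNilpotent
  refine D.le_fix0 (Group.IsSolvable.commutator_lt_top_of_nontrivial (G := S)).ne (fun u hu => ?_)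
    (Subgroup.commutator_mem_commutator (Subgroup.mem_top x) (Subgroup.mem_top y))
  exact (Subgroup.characteristic_iff_le_comap.1 (inferInstance : (commutator S).Characteristic)) σ hu

theorem conj_mem {x : S} (hx : x ∈ D.fix0) (g : S) : g * x * g⁻¹ ∈ D.fix0 := by
  rw [show g * x * g⁻¹ = ⁅g, x⁆ * x by simp only [commutatorElement_def]; group]
  exact mul_mem (D.commutator_mem g x) hx

theorem central {c : S} (hc : c ∈ D.fix0) (g : S) : g * c = c * g := by
  have h : Subgroup.centralizer ({c} : Set S) = ⊤ := D.eq_top_of_diff fun x => by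
    rw [Subgroup.mem_centralizer_singleton_iff]
    have h1 := D.mem_fix0.1 (D.conj_mem hc x)
    rw [map_mul, map_mul, map_inv, D.mem_fix0.1 hc, mul_inv_eq_iff_eq_mul] at h1
    rw [mul_assoc, h1]
    group
  exact Subgroup.mem_centralizer_singleton_iff.1 (h ▸ Subgroup.mem_top g)

theorem normal {R : Subgroup S} (h : D.fix0 ≤ R) : R.Normal :=
  ⟨fun x hx g => by
    rw [show g * x * g⁻¹ = ⁅g, x⁆ * x by simp only [commutatorElement_def]; group]
    exact mul_mem (h (D.commutator_mem g x)) hx⟩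

theorem prod_mem (x : S) : x * (σ ^ 2 ^ n) x ∈ D.fix0 := by
  refine D.mem_fix0_of_diff ?_
  rw [map_mul, D.s0_s0, show (x * (σ ^ 2 ^ n) x)⁻¹ * ((σ ^ 2 ^ n) x * x) = ⁅((σ ^ 2 ^ n) x)⁻¹, x⁻¹⁆ by
    simp only [commutatorElement_def]; group]
  exact D.commutator_mem _ _

/-- Elements moved within a subgroup above the fixed points lie in it. -/
theorem mem_of_diff {R : Subgroup S} (hR : D.fix0 ≤ R) {x : S} (hx : x⁻¹ * (σ ^ 2 ^ n) x ∈ R) : x ∈ R := by
  refine D.mem_of_sq ?_
  have h := mul_mem (hR (D.prod_mem x)) (inv_mem hx)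
  rwa [show x * (σ ^ 2 ^ n) x * (x⁻¹ * (σ ^ 2 ^ n) x)⁻¹ = x * x by group] at h

end Moved

end CfsgLib.GrossFit
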