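import Cfsg.Agent.GrossFit.Bounds
import Cfsg.Agent.GrossFit.Moved
import Mathlib

/-!
A moved group represented so that the operator has a single non-primitive eigenvalue and few primitive ones.
-/

set_option autoImplicit false
set_option linter.style.haveILetI false
set_option linter.unusedSectionVars false

namespace CfsgLib.GrossFit

open Module CfsgLib.PQFpf
open CfsgLib.ShultGross (pow_mem_of_invariant compat_pow exists_mul_mod)
open scoped commutatorElement

variable {k : Type*} [Field k] {W : Type*} [AddCommGroup W] [Module k W] {S : Type*} [Group S]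

/-- An element of two power order fixes what an odd power of it fixes. -/
theorem two_pow_mul_mod {M h : ℕ} (hh : Odd h) : ∃ t, h * t % 2 ^ (M + 1) = 1 := by
  have hcop : Nat.Coprime h (2 ^ (M + 1)) := (Nat.coprime_two_right.2 hh).pow_right _
  obtain ⟨t, -, ht⟩ := Nat.exists_mul_mod_eq_one_of_coprime hcop (Nat.one_lt_pow (Nat.succ_ne_zero M) one_lt_two)
  exact ⟨t, ht⟩

/-- The only solution of the multiplicity inequality. -/
theorem small_solution {t f0 y l : ℕ} (ht : t ≤ 2) (hf0 : t + f0 = y + 3)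
    (hb : (l + 4) * (t + f0 ^ 2) ≤ (y + 3) * (y + 3) + (l + 3)) : y = 0 ∧ l = 0 := by
  interval_cases t
  · obtain rfl : f0 = y + 3 := by omega
    exfalso
    nlinarith [Nat.zero_le (l * y), Nat.zero_le (l * (y * y))]
  · obtain rfl : f0 = y + 2 := by omega
    exfalso
    nlinarith [Nat.zero_le (l * y), Nat.zero_le (l * (y * y))]
  · obtain rfl : f0 = y + 1 := by omega
    constructor
    · nlinarith [Nat.zero_le (l * y), Nat.zero_le (l * (y * y)), Nat.zero_le l, Nat.zero_le (y*y)]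
    · nlinarith [Nat.zero_le (l * y), Nat.zero_le (l * (y * y)), Nat.zero_le y, Nat.zero_le (y*y)]

set_option maxHeartbeats 800000 in
/-- The exceptional group of the second level is a `3`-group, and the operator has order four. -/
theorem second_level [IsAlgClosed k] [Finite S] [FiniteDimensional k W] {σ : MulAut S} {q n : ℕ} (D : Moved σ q n)
    (π : S →* Module.End k W) (hkS : (Nat.card S : k) ≠ 0) (hk2 : (2 : k) ≠ 0) {m d : ℕ} (hm1 : 1 ≤ m)
    (hd : d * 2 ^ (m + 1) = 2 ^ (n + 1)) (B : Module.End k W) (hB : B ^ 2 ^ (m + 1) = 1)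
    (hcompat : ∀ x, B * π x = π ((σ ^ d) x) * B) (hid : (B - 1) * (B ^ 2 ^ m + 1) = 0)
    (hdim : finrank k (LinearMap.ker (B ^ 2 ^ m + 1)) ≤ 2) (hnt : ∃ x, π ((σ ^ 2 ^ n) x) ≠ π x) :
    q = 3 ∧ m = 1 := by
  classical
  haveI := Fact.mk D.hq
  set τ := σ ^ d with hτdef
  set s0 := σ ^ 2 ^ n with hs0
  set C0 := B ^ 2 ^ m with hC0
  have hτh : τ ^ 2 ^ m = s0 := by
    have h1 : d * 2 ^ m = 2 ^ n := by rw [pow_succ, pow_succ, ← mul_assoc] at hd; omega
    rw [hτdef, hs0, ← pow_mul, h1]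
  have hτℓ : τ ^ 2 ^ (m + 1) = 1 := by rw [hτdef, ← pow_mul, hd]; exact D.hσ
  have hCC : C0 * C0 = 1 := by rw [hC0, ← pow_add, ← two_mul, ← pow_succ', hB]
  have hC0compat : ∀ x, C0 * π x = π (s0 x) * C0 := fun x => by
    rw [hC0, ← hτh]; exact compat_pow hcompat _ x
  have hB1 : ∀ w : W, B (w + C0 w) = w + C0 w := fun w => by
    have h := LinearMap.congr_fun hid w
    simp only [Module.End.mul_apply, LinearMap.sub_apply, LinearMap.add_apply, Module.End.one_apply,
      LinearMap.zero_apply, sub_eq_zero] at h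
    rwa [add_comm] at h
  have hτfix0 : ∀ u ∈ D.fix0, τ u ∈ D.fix0 := pow_mem_of_invariant (fun _ => D.fix0_inv) d
  -- a weight space on which the involution does not commute
  obtain ⟨x₀, hx₀⟩ := hnt
  have hk0 : (Nat.card D.fix0 : k) ≠ 0 := fun h => hkS (by
    obtain ⟨c, hc⟩ := D.fix0.card_subgroup_dvd_card
    rw [hc, Nat.cast_mul, h, zero_mul])
  obtain ⟨lam, v, hv, hv0⟩ : ∃ (lam : D.fix0 →* kˣ) (v : W), IsWeight (π.comp D.fix0.subtype) lam v ∧
      (π x₀ * C0 - C0 * π x₀) v ≠ 0 := by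
    by_contra hcon
    push Not at hcon
    have h := ext_weights (π.comp D.fix0.subtype)
      (fun a b => congrArg (π.comp D.fix0.subtype) (Subtype.ext (D.central b.2 a))) hk0 (π x₀ * C0 - C0 * π x₀) hcon
    rw [sub_eq_zero] at h
    refine hx₀ ?_
    calc π (s0 x₀) = π (s0 x₀) * C0 * C0 := by rw [mul_assoc, hCC, mul_one]
      _ = C0 * π x₀ * C0 := by rw [hC0compat]
      _ = π x₀ * (C0 * C0) := by rw [← h, mul_assoc]
      _ = π x₀ := by rw [hCC, mul_one]
  let U : Submodule k W :=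
    { carrier := {w | IsWeight (π.comp D.fix0.subtype) lam w}
      zero_mem' := fun u => by rw [map_zero, smul_zero]
      add_mem' := fun {a b} ha hb u => by rw [map_add, ha, hb, smul_add]
      smul_mem' := fun c w hw u => by rw [map_smul, hw, smul_comm] }
  have hUπ : ∀ x : S, ∀ w ∈ U, π x w ∈ U := fun x w hw u => by
    show π (u : S) (π x w) = _
    rw [← Module.End.mul_apply, ← map_mul, ← D.central u.2 x, map_mul, Module.End.mul_apply,
      show π (u : S) w = ((lam u : kˣ) : k) • w from hw u, map_smul]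
  have hUC : ∀ w ∈ U, C0 w ∈ U := fun w hw u => by
    show π (u : S) (C0 w) = _
    rw [← (D.mem_fix0.1 u.2 : s0 (u : S) = u), ← Module.End.mul_apply, ← hC0compat, Module.End.mul_apply,
      show π (u : S) w = ((lam u : kˣ) : k) • w from hw u, map_smul]
  have hfixlam : ∀ u : D.fix0, lam ⟨τ u, hτfix0 u u.2⟩ = lam u := by
    obtain ⟨w, hw, hw1⟩ : ∃ w ∈ U, w + C0 w ≠ 0 := by
      by_contra hcon
      push Not at hcon
      have hneg : ∀ w ∈ U, C0 w = -w := fun w hw => eq_neg_of_add_eq_zero_right (hcon w hw)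
      refine hv0 ?_
      rw [LinearMap.sub_apply, Module.End.mul_apply, Module.End.mul_apply, hneg v hv, hneg _ (hUπ x₀ v hv), map_neg,
        sub_self]
    intro u
    have hu : π (u : S) (w + C0 w) = ((lam u : kˣ) : k) • (w + C0 w) := U.add_mem hw (hUC w hw) u
    have hu' : π (τ u) (w + C0 w) = ((lam ⟨τ u, hτfix0 u u.2⟩ : kˣ) : k) • (w + C0 w) :=
      U.add_mem hw (hUC w hw) ⟨τ u, hτfix0 u u.2⟩
    have h := LinearMap.congr_fun (hcompat u) (w + C0 w)
    rw [Module.End.mul_apply, Module.End.mul_apply, hu, hB1, hu', map_smul, hB1] at h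
    exact (Units.ext (smul_left_injective k hw1 h)).symm
  have hUB : ∀ w ∈ U, B w ∈ U := fun w hw u => by
    obtain ⟨y, hy⟩ : ∃ y : D.fix0, τ (y : S) = u := by
      refine ⟨⟨(τ ^ (2 ^ (m + 1) - 1)) (u : S), pow_mem_of_invariant hτfix0 _ u u.2⟩, ?_⟩
      show τ ((τ ^ (2 ^ (m + 1) - 1)) (u : S)) = u
      rw [← MulAut.mul_apply, ← pow_succ', Nat.sub_add_cancel (Nat.one_le_two_pow), hτℓ, MulAut.one_apply]
    show π (u : S) (B w) = _
    rw [← hy, ← Module.End.mul_apply, ← hcompat, Module.End.mul_apply,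
      show π (y : S) w = ((lam y : kˣ) : k) • w from hw y, map_smul,
      show lam u = lam y by rw [← hfixlam y]; exact congrArg lam (Subtype.ext hy.symm)]
  haveI : Nontrivial U := ⟨⟨v, hv⟩, 0, fun h => hv0 (by
    rw [show v = 0 from congrArg Subtype.val h, map_zero])⟩
  let πU : S →* Module.End k U := restrictRep U hUπ
  let BU : Module.End k U := B.restrict hUB
  have hBpow : ∀ (i : ℕ) (w : U), ((BU ^ i) w : W) = (B ^ i) (w : W) := restrict_pow_coe hUB
  have hBUcompat : ∀ x, BU * πU x = πU (τ x) * BU := fun x =>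
    LinearMap.ext fun w => Subtype.ext (LinearMap.congr_fun (hcompat x) (w : W))
  have hBU1 : ∀ w : U, BU (w + (BU ^ 2 ^ m) w) = w + (BU ^ 2 ^ m) w := fun w => Subtype.ext (by
    show B ((w : W) + ((BU ^ 2 ^ m) w : W)) = (w : W) + ((BU ^ 2 ^ m) w : W)
    rw [hBpow]; exact hB1 _)
  -- the commutator form
  let cm : S → S → kˣ := fun x y => lam ⟨⁅x, y⁆, D.commutator_mem x y⟩
  have hmulr : ∀ x y y', cm x (y * y') = cm x y * cm x y' := by
    intro x y y'
    show lam _ = lam _ * lam _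
    rw [← map_mul]
    refine congrArg lam (Subtype.ext ?_)
    show ⁅x, y * y'⁆ = ⁅x, y⁆ * ⁅x, y'⁆
    have hc := D.central (D.commutator_mem x y') y
    calc ⁅x, y * y'⁆ = ⁅x, y⁆ * (y * ⁅x, y'⁆) * y⁻¹ := by simp only [commutatorElement_def]; group
      _ = _ := by rw [hc]; group
  have hswap : ∀ x y, cm y x = (cm x y)⁻¹ := by
    intro x y
    show lam _ = (lam _)⁻¹
    rw [← map_inv]
    exact congrArg lam (Subtype.ext (commutatorElement_inv x y).symm)
  have hmull : ∀ x x' y, cm (x * x') y = cm x y * cm x' y := fun x x' y => by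
    rw [hswap y, hmulr, mul_inv, ← hswap, ← hswap]
  let χ : S →* (S →* kˣ) := MonoidHom.mk' (fun x => MonoidHom.mk' (cm x) (hmulr x))
    fun x x' => MonoidHom.ext fun y => hmull x x' y
  let R : Subgroup S := χ.ker
  have hR : ∀ u, u ∈ R ↔ ∀ y, cm u y = 1 := fun u => by
    rw [MonoidHom.mem_ker, MonoidHom.ext_iff]; rfl
  haveI : R.Normal := MonoidHom.normal_ker χ
  have hfix0R : D.fix0 ≤ R := fun c hc => (hR c).2 fun y => by
    show lam _ = 1
    rw [show (⟨⁅c, y⁆, D.commutator_mem c y⟩ : D.fix0) = 1 from Subtype.ext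
      (commutatorElement_eq_one_iff_mul_comm.2 (D.central hc y).symm), map_one]
  have hτcm : ∀ x y, cm (τ x) (τ y) = cm x y := fun x y => by
    show lam _ = lam _
    rw [← hfixlam ⟨⁅x, y⁆, D.commutator_mem x y⟩]
    exact congrArg lam (Subtype.ext (map_commutatorElement τ x y).symm)
  have hτR : ∀ u ∈ R, τ u ∈ R := fun u hu => (hR _).2 fun y => by
    obtain ⟨y, rfl⟩ := τ.surjective y
    rw [hτcm]; exact (hR u).1 hu y
  have hs0R : ∀ u ∈ R, s0 u ∈ R := fun u hu => hτh ▸ pow_mem_of_invariant hτR _ u hu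
  have hRk : (Nat.card R : k) ≠ 0 := fun h => hkS (by
    obtain ⟨c, hc⟩ := R.card_subgroup_dvd_card
    rw [hc, Nat.cast_mul, h, zero_mul])
  have hRcomm : ∀ a b : R, (πU.comp R.subtype) (a * b) = (πU.comp R.subtype) (b * a) := by
    intro a b
    refine LinearMap.ext fun w => Subtype.ext ?_
    show π ((a : S) * b) (w : W) = π ((b : S) * a) (w : W)
    have h1 : lam ⟨⁅(a : S), (b : S)⁆, D.commutator_mem _ _⟩ = 1 := (hR _).1 a.2 b
    have h2 : (a : S) * b = ⁅(a : S), (b : S)⁆ * ((b : S) * a) := by simp only [commutatorElement_def]; group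
    rw [h2, ← D.central (D.commutator_mem (a : S) b) ((b : S) * a), map_mul, Module.End.mul_apply,
      show π ⁅(a : S), (b : S)⁆ (w : W) = ((lam ⟨_, D.commutator_mem _ _⟩ : kˣ) : k) • (w : W) from
        w.2 ⟨_, D.commutator_mem _ _⟩, h1, Units.val_one, one_smul]
  -- weights of the radical are fixed by the involution
  let r₀ : R →* R := MonoidHom.mk' (fun u => ⟨s0 u, hs0R u u.2⟩) fun a b => Subtype.ext (map_mul _ _ _)
  let t₀ : R →* R := MonoidHom.mk' (fun u => ⟨τ u, hτR u u.2⟩) fun a b => Subtype.ext (map_mul _ _ _)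
  haveI : Fintype R := Fintype.ofFinite R
  have hRk' : (Fintype.card R : k) ≠ 0 := by rwa [← Nat.card_eq_fintype_card]
  have hshift : ∀ (μ : R →* kˣ) (w : U), IsWeight (πU.comp R.subtype) (μ.comp t₀) w →
      IsWeight (πU.comp R.subtype) μ (BU w) := fun μ w hw u => by
    obtain ⟨y, hy⟩ : ∃ y : R, t₀ y = u := by
      refine Finite.surjective_of_injective (fun a b hab => ?_) u
      exact Subtype.ext (τ.injective (congrArg Subtype.val hab))
    show πU (u : S) (BU w) = _
    rw [← hy, show ((t₀ y : R) : S) = τ (y : S) from rfl, ← Module.End.mul_apply, ← hBUcompat, Module.End.mul_apply,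
      show πU (y : S) w = ((μ (t₀ y) : kˣ) : k) • w from hw y, map_smul]
  have hwt : ∀ (μ : R →* kˣ) (w : U), IsWeight (πU.comp R.subtype) μ w → w ≠ 0 → μ.comp r₀ = μ := by
    intro μ w hw hw0
    by_contra hne
    set z := (BU ^ 2 ^ m) w with hz
    have hzw : IsWeight (πU.comp R.subtype) (μ.comp r₀) z := fun u => by
      show πU (u : S) ((BU ^ 2 ^ m) w) = _
      have h := LinearMap.congr_fun (compat_pow hBUcompat (2 ^ m) (s0 u)) w
      rw [hτh, D.s0_s0, Module.End.mul_apply, Module.End.mul_apply,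
        show πU (s0 (u : S)) w = ((μ (r₀ u) : kˣ) : k) • w from hw (r₀ u), map_smul] at h
      exact h.symm
    have hproj : ∀ ν ρ' : R →* kˣ, ∀ y : U, IsWeight (πU.comp R.subtype) ν y → ρ' ≠ ν →
        wproj (πU.comp R.subtype) ρ' y = 0 := fun ν ρ' y hy hne => wproj_other hy hne
    -- the two translates
    let inv : R →* R := MonoidHom.mk' (fun u => ⟨(τ ^ (2 ^ (m + 1) - 1)) (u : S),
      pow_mem_of_invariant hτR _ u u.2⟩) fun a b => Subtype.ext (map_mul _ _ _)
    have hti : ∀ u : R, inv (t₀ u) = u := fun u => Subtype.ext (by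
      show (τ ^ (2 ^ (m + 1) - 1)) (τ (u : S)) = u
      rw [← MulAut.mul_apply, ← pow_succ, Nat.sub_add_cancel Nat.one_le_two_pow, hτℓ, MulAut.one_apply])
    have hBw : ∀ (ν : R →* kˣ) (y : U), IsWeight (πU.comp R.subtype) ν y →
        IsWeight (πU.comp R.subtype) (ν.comp inv) (BU y) := fun ν y hy => hshift _ _ (by
      rwa [show (ν.comp inv).comp t₀ = ν from MonoidHom.ext fun u => congrArg ν (hti u)])
    have hiter : ∀ (i : ℕ), (∀ u u' : R, (u' : S) = (τ ^ i) (u : S) → μ u' = μ u) →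
        ∀ t (u u' : R), (u' : S) = (τ ^ (i * t)) (u : S) → μ u' = μ u := fun i hi t => by
      induction t with
      | zero => intro u u' hu; rw [Nat.mul_zero, pow_zero, MulAut.one_apply] at hu; rw [Subtype.ext hu]
      | succ t ih =>
        intro u u' hu
        rw [Nat.mul_succ, pow_add, MulAut.mul_apply] at hu
        exact (ih ⟨_, pow_mem_of_invariant hτR i (u : S) u.2⟩ u' hu).trans (hi u ⟨_, _⟩ rfl)
    have hback : ∀ i, Odd i → (∀ u u' : R, (u' : S) = (τ ^ i) (u : S) → μ u' = μ u) → False := by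
      intro i hi hfix
      obtain ⟨t, ht⟩ := two_pow_mul_mod (M := m) hi
      refine hne (MonoidHom.ext fun u => hiter i hfix (t * 2 ^ m) u (r₀ u) ?_)
      show s0 (u : S) = (τ ^ (i * (t * 2 ^ m))) (u : S)
      rw [← mul_assoc, pow_mul, pow_eq_pow_mod (i * t) hτℓ, ht, pow_one, hτh]
    have hA : μ ≠ μ.comp inv := fun he => hback (2 ^ (m + 1) - 1)
      (Nat.Even.sub_odd Nat.one_le_two_pow (Nat.even_pow.2 ⟨even_two, by omega⟩) odd_one)
      fun u u' hu => by
        rw [show μ u = (μ.comp inv) u from DFunLike.congr_fun he u]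
        exact congrArg μ (Subtype.ext hu)
    have hB' : μ ≠ (μ.comp r₀).comp inv := fun he => hback (2 ^ m + (2 ^ (m + 1) - 1))
      (Even.add_odd (Nat.even_pow.2 ⟨even_two, by omega⟩)
        (Nat.Even.sub_odd Nat.one_le_two_pow (Nat.even_pow.2 ⟨even_two, by omega⟩) odd_one))
      fun u u' hu => by
        rw [show μ u = ((μ.comp r₀).comp inv) u from DFunLike.congr_fun he u]
        refine congrArg μ (Subtype.ext ?_)
        rw [hu, pow_add, MulAut.mul_apply, hτh]
        rfl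
    have h := congrArg (wproj (πU.comp R.subtype) μ) (hBU1 w)
    rw [← hz, map_add, map_add, map_add, hproj _ _ _ (hBw μ w hw) hA, hproj _ _ _ (hBw _ z hzw) hB',
      wproj_self hRk' hw, hproj _ _ _ hzw (Ne.symm hne), add_zero, add_zero] at h
    exact hw0 h.symm
  obtain ⟨μ, w₀, hw₀, hw00⟩ := exists_weight (πU.comp R.subtype) hRcomm hRk
  have hsq : ∀ (ν : R →* kˣ) (w : U), IsWeight (πU.comp R.subtype) ν w → w ≠ 0 →
      ∀ u : R, ν u * ν u = lam ⟨(u : S) * s0 u, D.prod_mem u⟩ := by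
    intro ν w hw hw0 u
    have h1 : π ((u : S) * s0 u) (w : W) = ((ν (u * r₀ u) : kˣ) : k) • (w : W) :=
      congrArg Subtype.val (hw (u * r₀ u))
    rw [show π ((u : S) * s0 u) (w : W) = ((lam ⟨_, D.prod_mem u⟩ : kˣ) : k) • (w : W) from
      w.2 ⟨_, D.prod_mem u⟩] at h1
    have h2 := Units.ext (smul_left_injective k (fun h => hw0 (Subtype.ext h)) h1)
    rw [h2, map_mul, show ν (r₀ u) = ν u from DFunLike.congr_fun (hwt ν w hw hw0) u]
  have hscalar : ∀ u : R, πU (u : S) = ((μ u : kˣ) : k) • 1 := by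
    intro u
    refine sub_eq_zero.1 (ext_weights (πU.comp R.subtype) hRcomm hRk _ fun ν w hw => ?_)
    rcases eq_or_ne w 0 with rfl | hw0
    · exact map_zero _
    rw [LinearMap.sub_apply, show πU (u : S) w = ((ν u : kˣ) : k) • w from hw u, LinearMap.smul_apply,
      Module.End.one_apply]
    suffices h : (μ⁻¹ * ν) u = 1 by rw [inv_mul_eq_one.1 h, sub_self]
    have h1 : ((μ⁻¹ * ν) u) * ((μ⁻¹ * ν) u) = 1 := by
      show (μ u)⁻¹ * ν u * ((μ u)⁻¹ * ν u) = 1
      rw [mul_mul_mul_comm, hsq ν w hw hw0 u, ← mul_inv, hsq μ w₀ hw₀ hw00 u, inv_mul_cancel]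
    obtain ⟨a, ha⟩ := IsPGroup.iff_orderOf.1 D.hS (u : S)
    have h3 : ((μ⁻¹ * ν) u) ^ q ^ a = 1 := by
      rw [← map_pow, show u ^ q ^ a = 1 from Subtype.ext (by rw [Subgroup.coe_pow, ← ha, pow_orderOf_eq_one]; rfl),
        map_one]
    have hcop : Nat.Coprime 2 (q ^ a) := ((Nat.coprime_primes Nat.prime_two D.hq).2 (Ne.symm D.hq2)).pow_right _
    exact orderOf_eq_one_iff.1 (Nat.eq_one_of_dvd_coprimes hcop
      (orderOf_dvd_of_pow_eq_one (by rw [sq, h1])) (orderOf_dvd_of_pow_eq_one h3))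
  -- the form
  let F : FormRep πU R :=
    { χ := χ
      scalar := fun u hu => ⟨_, hscalar ⟨u, hu⟩⟩
      rel := fun x y => LinearMap.ext fun w => Subtype.ext (by
        show π x (π y (w : W)) = ((cm x y : kˣ) : k) • π y (π x (w : W))
        have h2 : x * y = ⁅x, y⁆ * (y * x) := by simp only [commutatorElement_def]; group
        rw [← Module.End.mul_apply, ← map_mul, h2, map_mul, Module.End.mul_apply, map_mul, Module.End.mul_apply]
        exact hUπ y _ (hUπ x _ w.2) ⟨_, D.commutator_mem x y⟩)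
      left_rad := fun u hu y => (hR u).1 hu y
      right_rad := fun x hx => (hR x).2 fun y => by
        rw [hswap y, show cm y x = 1 from hx y, inv_one]
      rad_right := fun u hu y => by
        show cm y u = 1
        rw [hswap u, (hR u).1 hu, inv_one] }
  haveI : Fintype (S ⧸ R) := Fintype.ofFinite _
  have hm : (Fintype.card (S ⧸ R) : k) ≠ 0 := fun h => hkS (by
    obtain ⟨c, hc⟩ := R.card_quotient_dvd_card
    rw [hc, Nat.cast_mul, Nat.card_eq_fintype_card, h, zero_mul])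
  have hRtop : R ≠ ⊤ := fun htop => hv0 (by
    have hall : ∀ x : S, πU (s0 x) = πU x := fun x => by
      rw [hscalar ⟨x, htop ▸ Subgroup.mem_top x⟩, hscalar ⟨s0 x, htop ▸ Subgroup.mem_top _⟩,
        show μ ⟨s0 x, htop ▸ Subgroup.mem_top _⟩ = μ ⟨x, htop ▸ Subgroup.mem_top x⟩ from
          DFunLike.congr_fun (hwt μ w₀ hw₀ hw00) ⟨x, htop ▸ Subgroup.mem_top x⟩]
    have h := congrArg Subtype.val (LinearMap.congr_fun (hall x₀) ⟨C0 v, hUC v hv⟩)
    change π (s0 x₀) (C0 v) = π x₀ (C0 v) at h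
    rw [← Module.End.mul_apply, ← hC0compat] at h
    rw [LinearMap.sub_apply, h, Module.End.mul_apply, sub_self])
  let tq : S ⧸ R →* S ⧸ R := QuotientGroup.map R R τ.toMonoidHom fun u hu => hτR u hu
  have htqs : Function.Surjective tq := fun y => by
    induction y using QuotientGroup.induction_on with
    | _ y =>
      obtain ⟨x, rfl⟩ := τ.surjective y
      exact ⟨(x : S ⧸ R), rfl⟩
  let bq : Equiv.Perm (S ⧸ R) := Equiv.ofBijective tq htqs.bijective_of_finite
  have hbq : ∀ x : S, bq (x : S ⧸ R) = ((τ x : S) : S ⧸ R) := fun x => rfl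
  have hbqpow : ∀ (i : ℕ) (x : S), (bq ^ i) (x : S ⧸ R) = (((τ ^ i) x : S) : S ⧸ R) := fun i => by
    induction i with
    | zero => intro x; rfl
    | succ i ih => intro x; rw [pow_succ', Equiv.Perm.mul_apply, ih, hbq, pow_succ' τ, MulAut.mul_apply]
  have hbℓ : bq ^ 2 ^ (m + 1) = 1 := Equiv.ext fun y => by
    induction y using QuotientGroup.induction_on with
    | _ x => rw [hbqpow, hτℓ]; rfl
  have hsemi : ∀ i : ℕ, ¬ 2 ^ (m + 1) ∣ i → ∀ y : S ⧸ R, (bq ^ i) y = y → y = 1 := by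
    intro i hi y hy
    induction y using QuotientGroup.induction_on with
    | _ x =>
      obtain ⟨t, ht⟩ := exists_mul_mod Nat.prime_two (i := i % 2 ^ (m + 1)) (fun h => hi (Nat.dvd_of_mod_eq_zero h))
        (Nat.mod_lt _ (by positivity))
      have hyt : ∀ t, ((bq ^ i) ^ t) (x : S ⧸ R) = (x : S ⧸ R) := fun t => by
        induction t with
        | zero => rfl
        | succ t ih => rw [pow_succ', Equiv.Perm.mul_apply, ih, hy]
      have hx := hyt t
      rw [pow_eq_pow_mod i hbℓ, ← pow_mul, pow_eq_pow_mod _ hbℓ, ht, hbqpow, hτh, QuotientGroup.eq] at hx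
      rw [QuotientGroup.eq_one_iff]
      refine D.mem_of_diff hfix0R ?_
      simpa [hs0] using R.inv_mem hx
  obtain ⟨y₀, hy₀⟩ : ∃ y : S ⧸ R, y ≠ 1 := by
    obtain ⟨x, -, hx⟩ := SetLike.exists_of_lt (lt_top_iff_ne_top.2 hRtop)
    exact ⟨x, fun h => hx ((QuotientGroup.eq_one_iff x).1 h)⟩
  set ℓ := 2 ^ (m + 1) with hℓdef
  have hℓ4 : 4 ≤ ℓ := le_trans (by norm_num : 4 ≤ 2 ^ 2) (Nat.pow_le_pow_right (by norm_num) (by omega))
  have hord : orderOf bq = ℓ := by
    refine Nat.dvd_antisymm (orderOf_dvd_of_pow_eq_one hbℓ) (by_contra fun h => ?_)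
    exact hy₀ (hsemi (orderOf bq) h y₀ (by rw [pow_orderOf_eq_one]; rfl))
  have hℓk : (ℓ : k) ≠ 0 := by rw [hℓdef, Nat.cast_pow]; exact pow_ne_zero _ hk2
  obtain ⟨U', hU'π, hU'B, hN, hone⟩ := exists_piece F hm τ hℓk BU
    (LinearMap.ext fun w => Subtype.ext (by rw [hBpow, hB]; rfl)) hBUcompat
  haveI : Nontrivial U' := by
    rw [← Module.finrank_pos_iff (R := k)]
    refine Nat.pos_of_ne_zero fun h => ?_
    rw [h, zero_mul] at hN
    exact Fintype.card_ne_zero hN.symm
  have hBpow' : ∀ (i : ℕ) (w : U'), (((BU.restrict hU'B) ^ i) w : U) = (BU ^ i) (w : U) := restrict_pow_coe hU'B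
  obtain ⟨ζ, f, hζ, hf, hbound, hev, hKb⟩ := exists_mult (restrictForm F U' hU'π) hm hone τ bq hbq
    (by omega) hℓk hord (BU.restrict hU'B)
    (LinearMap.ext fun w => Subtype.ext (Subtype.ext (by rw [hBpow', hBpow, hB]; rfl)))
    (fun x => LinearMap.ext fun w => Subtype.ext (LinearMap.congr_fun (hBUcompat x) (w : U)))
  have hfixcount : ∑ i ∈ Finset.range ℓ, Nat.card {y : S ⧸ R // (bq ^ i) y = y} =
      Fintype.card (S ⧸ R) + (ℓ - 1) := by
    rw [← Finset.add_sum_erase _ _ (Finset.mem_range.2 (by omega : 0 < ℓ))]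
    congr 1
    · rw [← Nat.card_eq_fintype_card]
      exact Nat.card_congr (Equiv.subtypeUnivEquiv fun y => rfl)
    · rw [Finset.sum_congr rfl fun i hi => show Nat.card {y : S ⧸ R // (bq ^ i) y = y} = 1 from ?_]
      · rw [Finset.sum_const, Finset.card_erase_of_mem (Finset.mem_range.2 (by omega)), Finset.card_range,
          smul_eq_mul, mul_one]
      · obtain ⟨hi0, hiℓ⟩ := Finset.mem_erase.1 hi
        rw [Finset.mem_range] at hiℓ
        refine Nat.card_eq_one_iff_exists.2 ⟨⟨1, ?_⟩, fun y => Subtype.ext (hsemi i ?_ y.1 y.2)⟩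
        · rw [← QuotientGroup.mk_one, hbqpow, map_one]
        · exact fun h => hi0 (Nat.eq_zero_of_dvd_of_lt h hiℓ)
  rw [hfixcount, ← hN] at hbound
  set x := finrank k U'
  -- the primitive eigenvalues
  have hneg : ∀ j : Fin ℓ, Odd (j : ℕ) → ((ζ ^ (j : ℕ))⁻¹) ^ 2 ^ m = -1 := fun j hj => by
    have h1 : ζ ^ 2 ^ m = -1 := by
      have h2 : (ζ ^ 2 ^ m) ^ 2 = 1 := by rw [← pow_mul, ← pow_succ]; exact hζ.pow_eq_one
      refine (sq_eq_one_iff.1 h2).resolve_left (hζ.pow_ne_one_of_pos_of_lt (Nat.two_pow_pos m).ne' ?_)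
      rw [hℓdef, pow_succ]; have := Nat.two_pow_pos m; omega
    rw [inv_pow, ← pow_mul, mul_comm, pow_mul, h1, hj.neg_one_pow]
    norm_num
  have hodd : ∑ j ∈ Finset.univ.filter (fun j : Fin ℓ => Odd (j : ℕ)), f j ≤ 2 := by
    refine (hKb _ (LinearMap.ker ((BU.restrict hU'B) ^ 2 ^ m + 1)) fun j hj w hw => ?_).trans ?_
    · have hp : ∀ i : ℕ, ((BU.restrict hU'B) ^ i) w = ((ζ ^ (j : ℕ))⁻¹) ^ i • w := fun i => by
        induction i with
        | zero => simp
        | succ i ih => rw [pow_succ', Module.End.mul_apply, ih, map_smul, hw, smul_smul, ← pow_succ]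
      rw [LinearMap.mem_ker, LinearMap.add_apply, hp, Module.End.one_apply, hneg j (Finset.mem_filter.1 hj).2]
      exact add_eq_zero_iff_eq_neg.2 (neg_one_smul k w)
    · refine le_trans ?_ hdim
      let Θ : LinearMap.ker ((BU.restrict hU'B) ^ 2 ^ m + 1) →ₗ[k] LinearMap.ker (B ^ 2 ^ m + 1) :=
        { toFun := fun w => ⟨((w : U') : U), by
            have h := congrArg (fun z : U' => ((z : U) : W)) (LinearMap.mem_ker.1 w.2)
            simp only [LinearMap.add_apply, Module.End.one_apply, Submodule.coe_add, hBpow', hBpow,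
              ZeroMemClass.coe_zero] at h
            rw [LinearMap.mem_ker, LinearMap.add_apply, Module.End.one_apply]
            exact h⟩
          map_add' := fun a b => rfl
          map_smul' := fun c a => rfl }
      exact LinearMap.finrank_le_finrank_of_injective (f := Θ) fun a b hab =>
        Subtype.ext (Subtype.ext (Subtype.ext (congrArg Subtype.val hab :)))
  have heven : ∀ j : Fin ℓ, ¬ Odd (j : ℕ) → (j : ℕ) ≠ 0 → f j = 0 := by
    intro j hj hj0
    by_contra hne
    obtain ⟨w, hw0, hw⟩ := hev j hne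
    set c := (ζ ^ (j : ℕ))⁻¹ with hc
    have hc1 : c ^ 2 ^ m = 1 := by
      obtain ⟨i, hi⟩ := Nat.not_odd_iff_even.1 hj
      rw [hc, hi, ← two_mul, inv_pow, ← pow_mul, mul_comm 2 i, mul_assoc, ← pow_succ', mul_comm, pow_mul,
        hζ.pow_eq_one, one_pow, inv_one]
    have hwW : B ((w : U) : W) = c • ((w : U) : W) := congrArg (fun z : U' => ((z : U) : W)) hw
    have hp : ∀ i : ℕ, (B ^ i) ((w : U) : W) = c ^ i • ((w : U) : W) := fun i => by
      induction i with
      | zero => simp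
      | succ i ih => rw [pow_succ', Module.End.mul_apply, ih, map_smul, hwW, smul_smul, ← pow_succ]
    have h := hB1 ((w : U) : W)
    rw [hC0, hp, hc1, one_smul, map_add, hwW, ← two_smul k (c • _), ← two_smul k ((w : U) : W)] at h
    have h' := smul_right_injective W hk2 h
    have hc11 : c = 1 := smul_left_injective k (fun h0 => hw0 (Subtype.ext (Subtype.ext h0)))
      (h'.trans (one_smul k _).symm)
    rw [hc, inv_eq_one] at hc11
    exact hζ.pow_ne_one_of_pos_of_lt hj0 j.2 hc11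
  set t := ∑ j ∈ Finset.univ.filter (fun j : Fin ℓ => Odd (j : ℕ)), f j with ht
  have h0 : (⟨0, by omega⟩ : Fin ℓ) ∈ Finset.univ.filter (fun j : Fin ℓ => ¬ Odd (j : ℕ)) := by simp
  have hrest : ∀ g : Fin ℓ → ℕ, (∀ j : Fin ℓ, f j = 0 → g j = 0) →
      ∑ j, g j = (∑ j ∈ Finset.univ.filter (fun j : Fin ℓ => Odd (j : ℕ)), g j) + g ⟨0, by omega⟩ := fun g hg => by
    rw [← Finset.sum_filter_add_sum_filter_not Finset.univ (fun j : Fin ℓ => Odd (j : ℕ))]
    congr 1
    refine Finset.sum_eq_single_of_mem _ h0 fun j hj hj0 => hg j (heven j (Finset.mem_filter.1 hj).2 ?_)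
    exact fun h => hj0 (Fin.ext h)
  rw [hrest f fun j h => h, ← ht] at hf
  rw [hrest (fun j => f j ^ 2) fun j h => by rw [h]; norm_num] at hbound
  have ht2 : t ≤ ∑ j ∈ Finset.univ.filter (fun j : Fin ℓ => Odd (j : ℕ)), f j ^ 2 :=
    Finset.sum_le_sum fun j _ => Nat.le_self_pow (by norm_num) _
  set f0 := f ⟨0, by omega⟩
  obtain ⟨a, ha⟩ := D.hS.exists_card_eq
  have hNd : x * x ∣ q ^ a := by
    rw [hN, ← Nat.card_eq_fintype_card, ← ha]; exact R.card_quotient_dvd_card
  have hx1 : 1 < x * x := by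
    rw [hN]
    exact Fintype.one_lt_card_iff.2 ⟨y₀, 1, hy₀⟩
  obtain ⟨e, -, he⟩ := (Nat.dvd_prime_pow D.hq).1 ((dvd_mul_right x x).trans hNd)
  have he0 : e ≠ 0 := fun h => by rw [h, pow_zero] at he; rw [he] at hx1; omega
  have hxodd : Odd x := he ▸ (D.hq.odd_of_ne_two D.hq2).pow
  have hx3 : 3 ≤ x := by
    obtain ⟨c, hc⟩ := hxodd
    rcases c.eq_zero_or_pos with rfl | hc0
    · rw [hc] at hx1; omega
    · omega
  have hb2 : ℓ * (t + f0 ^ 2) ≤ x * x + (ℓ - 1) :=
    le_trans (Nat.mul_le_mul_left _ (Nat.add_le_add_right ht2 _)) hbound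
  obtain ⟨l, hl⟩ : ∃ l, ℓ = l + 4 := ⟨ℓ - 4, by omega⟩
  obtain ⟨y, hy⟩ : ∃ y, x = y + 3 := ⟨x - 3, by omega⟩
  rw [hl, show l + 4 - 1 = l + 3 by omega, hy] at hb2
  rw [hy] at hf
  have hy0 : y = 0 ∧ l = 0 := small_solution hodd hf hb2
  refine ⟨?_, ?_⟩
  · have h3 : 3 ∣ q := Nat.prime_three.dvd_of_dvd_pow
      (show 3 ∣ q ^ e by rw [← he, hy, hy0.1])
    exact ((Nat.prime_dvd_prime_iff_eq Nat.prime_three D.hq).1 h3).symm
  · have h4 : 2 ^ (m + 1) = 2 ^ 2 := by rw [← hℓdef, hl, hy0.2]; norm_num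
    have := Nat.pow_right_injective (le_refl 2) h4
    omega

end CfsgLib.GrossFit
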