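import Cfsg.Agent.GrossFit.First
import Cfsg.Agent.Solvable.PGroupBasic
import Mathlib

/-!
A group of odd prime power order acting on a group of coprime odd prime power order which is represented without
fixed vectors: the involutory power centralises the action.
-/

set_option autoImplicit false
set_option linter.style.haveILetI false
set_option linter.unusedSectionVars false

namespace CfsgLib.GrossFit

open CfsgLib.ShultGross (pow_mem_of_invariant)
open scoped commutatorElement

universe u

variable {R : Type u} [Group R] [Finite R] {n : ℕ}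

theorem HasFpf.restrict {σR : MulAut R} (h : HasFpf R σR n) (R₀ : Subgroup R) (hR₀ : ∀ x ∈ R₀, σR x ∈ R₀) :
    HasFpf R₀ (resAut R₀ σR hR₀) n := by
  intro z hz
  obtain ⟨k, _, _, W, _, _, _, π, C, h1, h2, h3, h4, h5, h6⟩ := h (z : R) fun e => hz (Subtype.ext e)
  refine ⟨k, inferInstance, inferInstance, W, inferInstance, inferInstance, inferInstance, π.comp R₀.subtype, C,
    h1, fun e => h2 ?_, h3, h4, fun x => h5 x, h6⟩
  obtain ⟨c, hc⟩ := R₀.card_subgroup_dvd_card
  rw [hc, Nat.cast_mul, e, zero_mul]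

/-- Conjugation of an automorphism group by an automorphism, iterated. -/
theorem conj_pow_apply (σR h : MulAut R) (i : ℕ) :
    (MulAut.conj σR ^ i) h = σR ^ i * h * (σR ^ i)⁻¹ := by
  rw [← map_pow, MulAut.conj_apply]

theorem fixed_of_conj {σR : MulAut R} {q r : ℕ} (hq : q.Prime) (hq2 : q ≠ 2) (hr : r.Prime) (hr2 : r ≠ 2)
    (hqr : q ≠ r) (hRp : IsPGroup r R) (hσR : σR ^ 2 ^ (n + 1) = 1) (hrep : HasFpf R σR n) :
    ∀ (N : ℕ) (H : Subgroup (MulAut R)), Nat.card H ≤ N → IsPGroup q H → (∀ h ∈ H, σR * h * σR⁻¹ ∈ H) →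
      ∀ h ∈ H, σR ^ 2 ^ n * h = h * σR ^ 2 ^ n := by
  classical
  haveI := Fact.mk hq
  haveI := Fact.mk hr
  intro N
  induction N with
  | zero => intro H hN; exact absurd hN (Nat.not_le.2 Nat.card_pos)
  | succ N ih =>
    intro H hN hH hinv h₁ hh₁
    by_contra hne
    let σH : MulAut H := resAut H (MulAut.conj σR) fun h hh => by rw [MulAut.conj_apply]; exact hinv h hh
    have hσHpow : ∀ (i : ℕ) (h : H), ((σH ^ i) h : MulAut R) = σR ^ i * h * (σR ^ i)⁻¹ := fun i h => by
      rw [resAut_pow, conj_pow_apply]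
    have D : Moved σH q n := by
      refine ⟨hq, hq2, hH, MulEquiv.ext fun h => Subtype.ext ?_, fun M hM hMinv x hx => ?_, fun e => hne ?_⟩
      · rw [hσHpow, hσR, one_mul, inv_one, mul_one]; rfl
      · refine Subtype.ext ?_
        rw [hσHpow, mul_inv_eq_iff_eq_mul]
        refine ih (M.map H.subtype) ?_ (hH.to_subgroup M |>.map H.subtype) ?_ _ ⟨x, hx, rfl⟩
        · have h1 : Nat.card (M.map H.subtype) = Nat.card M := Subgroup.card_map_of_injective H.subtype_injective
          have h2 : Nat.card M < Nat.card H := lt_of_le_of_ne (Subgroup.card_le_card_group _)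
            fun e => hM (Subgroup.eq_top_of_card_eq _ e)
          omega
        · rintro _ ⟨y, hy, rfl⟩
          exact ⟨σH y, hMinv y hy, rfl⟩
      · have h1 := congrArg Subtype.val (MulEquiv.congr_fun e ⟨h₁, hh₁⟩)
        rw [hσHpow] at h1
        exact mul_inv_eq_iff_eq_mul.1 h1
    suffices ∀ R₀ : Subgroup R, (∀ x ∈ R₀, σR x ∈ R₀) → (∀ h ∈ H, ∀ x ∈ R₀, (h : MulAut R) x ∈ R₀) →
        ∀ h ∈ H, ∀ x ∈ R₀, (h : MulAut R) x = x by
      refine hne ?_
      rw [show h₁ = 1 from MulEquiv.ext fun x => this ⊤ (fun _ _ => Subgroup.mem_top _)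
        (fun _ _ _ _ => Subgroup.mem_top _) h₁ hh₁ x (Subgroup.mem_top x), mul_one, one_mul]
    intro R₀
    induction R₀ using WellFoundedLT.induction with
    | _ R₀ ihR =>
      intro hR₀ hHR₀
      by_contra hmov
      have hgenR : ∀ g : Subgroup R, (∀ h ∈ H, ∀ x ∈ R₀, x⁻¹ * (h : MulAut R) x ∈ g) → R₀ ≤ g := by
        intro g hg
        let K := Subgroup.closure {z : R | ∃ h ∈ H, ∃ x ∈ R₀, z = x⁻¹ * (h : MulAut R) x}
        have hKg : K ≤ g := (Subgroup.closure_le g).2 (by rintro _ ⟨h, hh, x, hx, rfl⟩; exact hg h hh x hx)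
        refine le_of_eq_of_le (le_antisymm ?_ ((Subgroup.closure_le R₀).2 ?_)) hKg
        swap
        · rintro _ ⟨h, hh, x, hx, rfl⟩
          exact mul_mem (inv_mem hx) (hHR₀ h hh x hx)
        by_contra hKne
        have hKR : K ≤ R₀ := (Subgroup.closure_le R₀).2 (by
          rintro _ ⟨h, hh, x, hx, rfl⟩
          exact mul_mem (inv_mem hx) (hHR₀ h hh x hx))
        have hKinv : ∀ φ : MulAut R, (∀ h ∈ H, φ * h * φ⁻¹ ∈ H) → (∀ x ∈ R₀, φ x ∈ R₀) → ∀ z ∈ K, φ z ∈ K := by
          intro φ hφH hφR z hz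
          refine (Subgroup.closure_le (K.comap φ.toMonoidHom)).2 ?_ hz
          rintro _ ⟨h, hh, x, hx, rfl⟩
          refine Subgroup.subset_closure ⟨_, hφH h hh, _, hφR x hx, ?_⟩
          show φ (x⁻¹ * h x) = (φ x)⁻¹ * (φ * h * φ⁻¹) (φ x)
          rw [MulAut.mul_apply, MulAut.mul_apply, MulAut.inv_apply_self, map_mul, map_inv]
        have hfixK := ihR K (lt_of_le_not_ge hKR hKne) (hKinv σR hinv hR₀)
          fun g hg => hKinv g (fun h hh => mul_mem (mul_mem hg hh) (inv_mem hg)) (hHR₀ g hg)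
        refine hmov fun h hh x hx => ?_
        have hc : x⁻¹ * (h : MulAut R) x ∈ K := Subgroup.subset_closure ⟨h, hh, x, hx, rfl⟩
        have hpow : ∀ i : ℕ, (h ^ i : MulAut R) x = x * (x⁻¹ * (h : MulAut R) x) ^ i := fun i => by
          induction i with
          | zero => simp
          | succ i ih2 =>
            rw [pow_succ', MulAut.mul_apply, ih2, map_mul, map_pow, hfixK h hh _ hc, pow_succ', ← mul_assoc,
              mul_inv_cancel_left]
        obtain ⟨a, ha⟩ := IsPGroup.iff_orderOf.1 hH ⟨h, hh⟩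
        have ha' : (h : MulAut R) ^ q ^ a = 1 := by
          rw [← ha, ← Subgroup.orderOf_coe, pow_orderOf_eq_one]
        have h1 := hpow (q ^ a)
        rw [ha', MulAut.one_apply, left_eq_mul] at h1
        obtain ⟨b, hb⟩ := IsPGroup.iff_orderOf.1 hRp (x⁻¹ * (h : MulAut R) x)
        have h2 : x⁻¹ * (h : MulAut R) x = 1 := orderOf_eq_one_iff.1 (Nat.eq_one_of_dvd_coprimes
          (Nat.coprime_pow_primes b a hr hq hqr.symm) hb.dvd (orderOf_dvd_of_pow_eq_one h1))
        exact (inv_mul_eq_one.1 h2).symm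
      haveI : Nontrivial R₀ := by
        by_contra e
        rw [not_nontrivial_iff_subsingleton] at e
        exact hmov fun h hh x hx =>
          congrArg Subtype.val (Subsingleton.elim (⟨(h : MulAut R) x, hHR₀ h hh x hx⟩ : R₀) ⟨x, hx⟩)
      let σ₀ : MulAut R₀ := resAut R₀ σR hR₀
      let act : H →* MulAut R₀ :=
        { toFun := fun h => resAut R₀ (h : MulAut R) (hHR₀ h h.2)
          map_one' := MulEquiv.ext fun x => Subtype.ext rfl
          map_mul' := fun a b => MulEquiv.ext fun x => Subtype.ext rfl }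
      have hact : ∀ (h : H) (x : R₀), σ₀ (act h x) = act (σH h) (σ₀ x) := fun h x => Subtype.ext (by
        show σR ((h : MulAut R) x) = (σR * h * σR⁻¹) (σR x)
        rw [MulAut.mul_apply, MulAut.mul_apply, MulAut.inv_apply_self])
      have hσ₀ : σ₀ ^ 2 ^ (n + 1) = 1 := MulEquiv.ext fun x => Subtype.ext (by
        rw [resAut_pow, hσR]; rfl)
      have hgen : ∀ M : Subgroup R₀, (∀ (h : H) (x : R₀), x⁻¹ * act h x ∈ M) → M = ⊤ := fun M hM => by
        have h1 := hgenR (M.map R₀.subtype) fun h hh x hx => ⟨_, hM ⟨h, hh⟩ ⟨x, hx⟩, rfl⟩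
        refine eq_top_iff.2 fun x _ => ?_
        obtain ⟨y, hy, e⟩ := h1 x.2
        rwa [← Subtype.ext e]
      have hfix : ∀ M : Subgroup R₀, M.Characteristic → M ≠ ⊤ → ∀ (h : H), ∀ z ∈ M, act h z = z := by
        intro M hM hMne h z hz
        refine Subtype.ext (ihR (M.map R₀.subtype) (lt_of_le_not_ge (Subgroup.map_subtype_le M) fun e => hMne ?_)
          ?_ ?_ h h.2 z ⟨z, hz, rfl⟩)
        · refine eq_top_iff.2 fun x _ => ?_
          obtain ⟨y, hy, e'⟩ := e x.2
          rwa [← Subtype.ext e']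
        · rintro _ ⟨y, hy, rfl⟩
          exact ⟨σ₀ y, Subgroup.characteristic_iff_le_comap.1 hM σ₀ hy, rfl⟩
        · rintro g hg _ ⟨y, hy, rfl⟩
          exact ⟨act ⟨g, hg⟩ y, Subgroup.characteristic_iff_le_comap.1 hM (act ⟨g, hg⟩) hy, rfl⟩
      have hcentral : ∀ M : Subgroup R₀, M.Characteristic → M ≠ ⊤ → M ≤ Subgroup.center R₀ := by
        intro M hM hMne z hz
        haveI := hM
        have h1 : Subgroup.centralizer ({z} : Set R₀) = ⊤ := hgen _ fun h x => by
          rw [Subgroup.mem_centralizer_singleton_iff]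
          have hzc : x * z * x⁻¹ ∈ M := Subgroup.Normal.conj_mem inferInstance z hz x
          have e := hfix M hM hMne h _ hzc
          rw [map_mul, map_mul, map_inv, hfix M hM hMne h z hz, mul_inv_eq_iff_eq_mul] at e
          rw [mul_assoc, e]
          group
        rw [Subgroup.mem_center_iff]
        exact fun g => Subgroup.mem_centralizer_singleton_iff.1 (h1 ▸ Subgroup.mem_top g)
      have hR₀p : IsPGroup r R₀ := hRp.to_subgroup R₀
      haveI : Group.IsNilpotent R₀ := hR₀p.isNilpotent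
      have hder : commutator R₀ ≠ ⊤ := (Group.IsSolvable.commutator_lt_top_of_nontrivial (G := R₀)).ne
      have hfrat : frattini R₀ ≠ ⊤ := fun e => by
        obtain ⟨K, hK, -⟩ := (IsCoatomic.eq_top_or_exists_le_coatom (⊥ : Subgroup R₀)).resolve_left bot_ne_top
        exact hK.1 (top_le_iff.1 (e ▸ frattini_le_coatom hK))
      have hrep₀ := hrep.restrict R₀ hR₀
      by_cases hab : ∃ x y : R₀, ⁅x, y⁆ ≠ 1
      · have hZ : Subgroup.center R₀ ≠ ⊤ := fun e => by
          obtain ⟨x, y, hxy⟩ := hab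
          exact hxy (commutatorElement_eq_one_iff_mul_comm.2
            (Subgroup.mem_center_iff.1 (e ▸ Subgroup.mem_top y) x))
        exact first_level D hr hr2 hqr hR₀p hσ₀ act hact hrep₀ hgen
          (fun x y => hcentral _ inferInstance hder
            (Subgroup.commutator_mem_commutator (Subgroup.mem_top x) (Subgroup.mem_top y)))
          (fun x => hcentral _ inferInstance hfrat ((CfsgLib.PGroupBasic.commutator_pow_le_frattini hR₀p).2 x))
          (fun h => hfix _ inferInstance hZ h) hab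
      · push Not at hab
        have hs0 : ∀ x : R₀, (σ₀ ^ 2 ^ n) x = x := fun x =>
          abelian_fixed hrep₀ hσ₀ ⊤ (fun _ _ => Subgroup.mem_top _)
            (fun a _ b _ => commutatorElement_eq_one_iff_mul_comm.1 (hab a b)) (Subgroup.mem_top x)
        let T : Subgroup H := act.ker
        have hT : T = ⊤ := D.eq_top_of_diff fun h => by
          rw [MonoidHom.mem_ker, map_mul, map_inv, inv_mul_eq_one]
          refine MulEquiv.ext fun x => Subtype.ext ?_
          show (h : MulAut R) x = ((σH ^ 2 ^ n) h : MulAut R) x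
          have e1 := congrArg Subtype.val (hs0 x)
          have e2 := congrArg Subtype.val (hs0 (act h x))
          rw [resAut_pow] at e1 e2
          rw [hσHpow, MulAut.mul_apply, MulAut.mul_apply,
            show (σR ^ 2 ^ n)⁻¹ (x : R) = x by
              conv_lhs => rw [← e1]
              exact MulAut.inv_apply_self _ _ _]
          exact e2.symm
        refine hmov fun h hh x hx => ?_
        have h1 : act ⟨h, hh⟩ = 1 := MonoidHom.mem_ker.1 (hT ▸ Subgroup.mem_top _ : (⟨h, hh⟩ : H) ∈ T)
        exact congrArg Subtype.val (MulEquiv.congr_fun h1 ⟨x, hx⟩)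

/-- A group of odd prime power order acting on a group with such a representation acts through the fixed points
of the involutory power. -/
theorem moves_trivial {S : Type*} [Group S] [Finite S] {σS : MulAut S} {σR : MulAut R} {q r : ℕ} (hq : q.Prime)
    (hq2 : q ≠ 2) (hr : r.Prime) (hr2 : r ≠ 2) (hqr : q ≠ r) (hS : IsPGroup q S) (hRp : IsPGroup r R)
    (hσR : σR ^ 2 ^ (n + 1) = 1) (hrep : HasFpf R σR n) (act : S →* MulAut R)
    (hact : ∀ s x, σR (act s x) = act (σS s) (σR x)) (s : S) :
    act ((σS ^ 2 ^ n) s) = act s := by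
  have hconj : ∀ (i : ℕ) (s : S), act ((σS ^ i) s) = σR ^ i * act s * (σR ^ i)⁻¹ := by
    have h1 : ∀ s, act (σS s) = σR * act s * σR⁻¹ := fun s => MulEquiv.ext fun x => by
      rw [MulAut.mul_apply, MulAut.mul_apply, hact, MulAut.apply_inv_self]
    intro i
    induction i with
    | zero => intro s; simp
    | succ i ih =>
      intro s
      rw [pow_succ', MulAut.mul_apply, h1, ih, pow_succ' σR, mul_inv_rev]
      simp only [mul_assoc]
  have h := fixed_of_conj hq hq2 hr hr2 hqr hRp hσR hrep _ act.range le_rfl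
    (hS.of_surjective act.rangeRestrict act.rangeRestrict_surjective)
    (by rintro _ ⟨t, rfl⟩; exact ⟨σS t, by simpa using hconj 1 t⟩) (act s) ⟨s, rfl⟩
  rw [hconj, h, mul_inv_cancel_right]

end CfsgLib.GrossFit
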